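import Mathlib
import Cfsg.Agent.Lib.FpfOrderThree

set_option autoImplicit false

/-!
Groups with an element of order three which is self-centralizing: elementary facts.
-/

namespace CfsgLib.SelfCentThree

open scoped commutatorElement

universe u

variable {G : Type u} [Group G]

/-- `x` has order three and generates its centralizer. -/
structure SC3 (x : G) : Prop where
  /-- order three -/
  ord : orderOf x = 3
  /-- self-centralizing -/
  cent : ∀ y : G, Commute x y → y ∈ Subgroup.zpowers x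

/-- A subgroup of order prime to three. -/
def Three' (K : Subgroup G) : Prop := ¬ 3 ∣ Nat.card K

/-- `x` normalizes `K`. -/
def Inv' (x : G) (K : Subgroup G) : Prop := ∀ k : G, k ∈ K ↔ x * k * x⁻¹ ∈ K

theorem inv'_iff_mem_normalizer {x : G} {K : Subgroup G} :
    Inv' x K ↔ x ∈ Subgroup.normalizer (K : Set G) := Subgroup.mem_normalizer_iff.symm

variable {x : G}

theorem SC3.pow_three (h : SC3 x) : x ^ 3 = 1 := h.ord ▸ pow_orderOf_eq_one x

theorem SC3.ne_one (h : SC3 x) : x ≠ 1 := fun e => by have := h.ord; rw [e, orderOf_one] at this; omega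

theorem SC3.inv (h : SC3 x) : SC3 x⁻¹ where
  ord := by rw [orderOf_inv, h.ord]
  cent y hy := by
    rw [Subgroup.zpowers_inv]
    exact h.cent y (by simpa using hy.inv_left)

theorem SC3.conj (h : SC3 x) (g : G) : SC3 (g * x * g⁻¹) where
  ord := by
    rw [show g * x * g⁻¹ = MulAut.conj g x from rfl, MulEquiv.orderOf_eq, h.ord]
  cent y hy := by
    have hc : Commute x (g⁻¹ * y * g) := by
      have := hy.map (MulAut.conj g⁻¹).toMonoidHom
      simpa [mul_assoc] using this
    obtain ⟨k, hk⟩ := Subgroup.mem_zpowers_iff.1 (h.cent _ hc)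
    refine Subgroup.mem_zpowers_iff.2 ⟨k, ?_⟩
    rw [conj_zpow, hk]
    group

theorem SC3.mem_cases (h : SC3 x) {y : G} (hy : y ∈ Subgroup.zpowers x) : y = 1 ∨ y = x ∨ y = x⁻¹ := by
  obtain ⟨k, rfl⟩ := Subgroup.mem_zpowers_iff.1 hy
  rw [← zpow_mod_orderOf, h.ord]
  have h1 := Int.emod_nonneg k (show ((3 : ℕ) : ℤ) ≠ 0 by norm_num)
  have h2 := Int.emod_lt_of_pos k (show (0 : ℤ) < ((3 : ℕ) : ℤ) by norm_num)
  set r := k % ((3 : ℕ) : ℤ)
  rcases (show r = 0 ∨ r = 1 ∨ r = 2 by omega) with e | e | e <;> rw [e]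
  · simp
  · simp
  · right; right
    apply eq_inv_of_mul_eq_one_left
    rw [show (2 : ℤ) = ((2 : ℕ) : ℤ) from rfl, zpow_natCast, ← pow_succ, h.pow_three]

theorem SC3.card_zpowers (h : SC3 x) : Nat.card (Subgroup.zpowers x) = 3 := by rw [Nat.card_zpowers, h.ord]

theorem SC3.centralizer_eq (h : SC3 x) : Subgroup.centralizer ({x} : Set G) = Subgroup.zpowers x := by
  refine le_antisymm (fun y hy => h.cent y ?_) (Subgroup.zpowers_le.2 ?_)
  · exact (Subgroup.mem_centralizer_singleton_iff.1 hy).symm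
  · exact Subgroup.mem_centralizer_singleton_iff.2 rfl

theorem SC3.fpf [Finite G] (h : SC3 x) {K : Subgroup G} (hK : Three' K) : ∀ k ∈ K, Commute x k → k = 1 := by
  intro k hk hc
  have hz := h.cent k hc
  rcases h.mem_cases hz with e | e | e
  · exact e
  all_goals exfalso; apply hK; rw [← h.ord]
  · rw [← e, ← Subgroup.orderOf_mk k hk]; exact orderOf_dvd_natCard _
  · rw [← orderOf_inv x, ← e, ← Subgroup.orderOf_mk k hk]; exact orderOf_dvd_natCard _

theorem SC3.sub (h : SC3 x) (H : Subgroup G) (hx : x ∈ H) : SC3 (⟨x, hx⟩ : H) where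
  ord := by rw [Subgroup.orderOf_mk, h.ord]
  cent y hy := by
    obtain ⟨k, hk⟩ := Subgroup.mem_zpowers_iff.1 (h.cent y.1 (hy.map H.subtype))
    exact Subgroup.mem_zpowers_iff.2 ⟨k, Subtype.ext (by simpa using hk)⟩

variable [Finite G]

theorem SC3.not_nine (h : SC3 x) : ¬ 9 ∣ Nat.card G := by
  intro h9
  haveI : Fact (Nat.Prime 3) := ⟨Nat.prime_three⟩
  have hp : IsPGroup 3 (Subgroup.zpowers x) := IsPGroup.of_card (n := 1) (by rw [h.card_zpowers, pow_one])
  obtain ⟨P, hP⟩ := hp.exists_le_sylow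
  have hxP : x ∈ (P : Subgroup G) := hP (Subgroup.mem_zpowers x)
  haveI : Nontrivial (P : Subgroup G) := ⟨⟨⟨x, hxP⟩, 1, fun e => h.ne_one (congrArg Subtype.val e)⟩⟩
  haveI := P.2.center_nontrivial
  obtain ⟨z, hz⟩ := exists_ne (1 : Subgroup.center (P : Subgroup G))
  have hzc : ∀ q : (P : Subgroup G), Commute (z.1.1 : G) q.1 := fun q =>
    (congrArg Subtype.val (Subgroup.mem_center_iff.1 z.2 q)).symm
  have hzx := h.mem_cases (h.cent z.1.1 (hzc ⟨x, hxP⟩).symm)
  have hall : ∀ q : (P : Subgroup G), q.1 ∈ Subgroup.zpowers x := fun q => by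
    apply h.cent
    rcases hzx with e | e | e
    · exact absurd (Subtype.ext (Subtype.ext e)) hz
    · rw [← e]; exact hzc q
    · have := hzc q; rw [e] at this; simpa using this.inv_left
  have hle : Nat.card (P : Subgroup G) ≤ 3 := le_of_le_of_eq
    (Nat.card_le_card_of_injective (fun q => (⟨q.1, hall q⟩ : Subgroup.zpowers x))
      fun a b e => Subtype.ext (congrArg (fun w : Subgroup.zpowers x => w.1) e)) h.card_zpowers
  have := Nat.le_of_dvd Nat.card_pos (P.pow_dvd_card_of_pow_dvd_card (n := 2) (by simpa using h9))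
  omega

theorem SC3.sylow_card (h : SC3 x) [Fact (Nat.Prime 3)] (P : Sylow 3 G) : Nat.card (P : Subgroup G) = 3 := by
  obtain ⟨n, hn⟩ := IsPGroup.iff_card.1 P.2
  have h1 : 1 ≤ n := by
    by_contra h0
    have := P.pow_dvd_card_of_pow_dvd_card (n := 1) (by rw [pow_one, ← h.ord]; exact orderOf_dvd_natCard x)
    rw [hn, show n = 0 by omega] at this
    norm_num at this
  have h2 : n < 2 := by
    by_contra h0
    exact h.not_nine ((show 9 ∣ 3 ^ n by
      rw [show (9 : ℕ) = 3 ^ 2 from rfl]; exact pow_dvd_pow 3 (by omega)).trans (hn ▸ (P : Subgroup G).card_subgroup_dvd_card))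
  rw [hn, show n = 1 by omega, pow_one]

/-- Subgroups generated by elements of order three are conjugate. -/
theorem SC3.conj_zpowers (h : SC3 x) {y : G} (hy : orderOf y = 3) :
    ∃ g : G, y = g * x * g⁻¹ ∨ y = g * x⁻¹ * g⁻¹ := by
  haveI : Fact (Nat.Prime 3) := ⟨Nat.prime_three⟩
  have mk : ∀ z : G, orderOf z = 3 → ∃ P : Sylow 3 G, (P : Subgroup G) = Subgroup.zpowers z := by
    intro z hz
    obtain ⟨P, hP⟩ := (IsPGroup.of_card (p := 3) (n := 1) (G := Subgroup.zpowers z)
      (by rw [Nat.card_zpowers, hz, pow_one])).exists_le_sylow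
    exact ⟨P, (Subgroup.eq_of_le_of_card_ge hP (by rw [h.sylow_card P, Nat.card_zpowers, hz])).symm⟩
  obtain ⟨P, hP⟩ := mk x h.ord
  obtain ⟨Q, hQ⟩ := mk y hy
  obtain ⟨g, hg⟩ := MulAction.exists_smul_eq G P Q
  refine ⟨g, ?_⟩
  have hyQ : y ∈ ((g • P : Sylow 3 G) : Subgroup G) := by rw [hg, hQ]; exact Subgroup.mem_zpowers y
  rw [Sylow.coe_subgroup_smul, Subgroup.mem_pointwise_smul_iff_inv_smul_mem, hP] at hyQ
  have e : y = g * ((MulAut.conj g)⁻¹ • y) * g⁻¹ := by
    simp [MulAut.smul_def]; group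
  rcases h.mem_cases hyQ with e1 | e1 | e1
  · rw [e1] at e; simp at e; rw [e, orderOf_one] at hy; omega
  · left; rw [e1] at e; exact e
  · right; rw [e1] at e; exact e

theorem SC3.of_order (h : SC3 x) {y : G} (hy : orderOf y = 3) : SC3 y := by
  obtain ⟨g, rfl | rfl⟩ := h.conj_zpowers hy
  exacts [h.conj g, h.inv.conj g]

theorem three'_of_no_elt {K : Subgroup G} (h : ∀ k ∈ K, orderOf k ≠ 3) : Three' K := by
  intro h3
  haveI : Fact (Nat.Prime 3) := ⟨Nat.prime_three⟩
  obtain ⟨k, hk⟩ := exists_prime_orderOf_dvd_card' (G := K) 3 h3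
  exact h k.1 k.2 (by rw [Subgroup.orderOf_coe]; exact hk)

theorem three'_mono {K L : Subgroup G} (hle : K ≤ L) (hL : Three' L) : Three' K :=
  fun h => hL (h.trans (Subgroup.card_dvd_of_le hle))

/-- The data of a three-prime subgroup normalized by `x`, as a normal subgroup of a subgroup containing `x`. -/
theorem SC3.normalizer_data (h : SC3 x) {K : Subgroup G} (hK : Three' K) (hxK : Inv' x K) :
    ∃ hx : x ∈ Subgroup.normalizer (K : Set G),
      (K.subgroupOf (Subgroup.normalizer (K : Set G))).Normal ∧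
      ∀ k ∈ K.subgroupOf (Subgroup.normalizer (K : Set G)),
        Commute (⟨x, hx⟩ : Subgroup.normalizer (K : Set G)) k → k = 1 :=
  ⟨inv'_iff_mem_normalizer.1 hxK, Subgroup.normal_in_normalizer, fun k hk hc =>
    Subtype.ext (h.fpf hK k.1 hk (hc.map (Subgroup.subtype _)))⟩

theorem SC3.preimage (h : SC3 x) {K : Subgroup G} (hK : Three' K) (hxK : Inv' x K) {v : G} (hv : v ∈ K) :
    ∃ n ∈ K, n⁻¹ * (x * n * x⁻¹) = v := by
  obtain ⟨hx, hn, hf⟩ := h.normalizer_data hK hxK
  haveI := hn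
  obtain ⟨n, hn, e⟩ := FpfThree.exists_preimage (d := (⟨x, hx⟩ : Subgroup.normalizer (K : Set G))) hf
    (v := ⟨v, Subgroup.le_normalizer hv⟩) hv
  exact ⟨n.1, hn, congrArg Subtype.val e⟩

theorem SC3.orbit_prod (h : SC3 x) {K : Subgroup G} (hK : Three' K) (hxK : Inv' x K) {v : G} (hv : v ∈ K) :
    v * (x * v * x⁻¹) * (x * x * v * (x * x)⁻¹) = 1 := by
  obtain ⟨hx, hn, hf⟩ := h.normalizer_data hK hxK
  haveI := hn
  exact congrArg Subtype.val (FpfThree.orbit_prod (d := (⟨x, hx⟩ : Subgroup.normalizer (K : Set G)))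
    (Subtype.ext h.pow_three) hf (v := ⟨v, Subgroup.le_normalizer hv⟩) hv)

theorem SC3.comm_orbit (h : SC3 x) {K : Subgroup G} (hK : Three' K) (hxK : Inv' x K) {v : G} (hv : v ∈ K) :
    Commute v (x * v * x⁻¹) := by
  obtain ⟨hx, hn, hf⟩ := h.normalizer_data hK hxK
  haveI := hn
  exact (FpfThree.comm_orbit (d := (⟨x, hx⟩ : Subgroup.normalizer (K : Set G)))
    (Subtype.ext h.pow_three) hf (v := ⟨v, Subgroup.le_normalizer hv⟩) hv).map (Subgroup.subtype _)

theorem SC3.comm_conj (h : SC3 x) {K : Subgroup G} (hK : Three' K) (hxK : Inv' x K) {v w : G}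
    (hv : v ∈ K) (hw : w ∈ K) : Commute v (w * v * w⁻¹) := by
  obtain ⟨hx, hn, hf⟩ := h.normalizer_data hK hxK
  haveI := hn
  exact (FpfThree.comm_conj (d := (⟨x, hx⟩ : Subgroup.normalizer (K : Set G)))
    (Subtype.ext h.pow_three) hf (x := ⟨v, Subgroup.le_normalizer hv⟩) (y := ⟨w, Subgroup.le_normalizer hw⟩) hv hw).map
      (Subgroup.subtype _)

theorem SC3.class_two (h : SC3 x) {K : Subgroup G} (hK : IsPGroup 2 K) (hxK : Inv' x K) {a b c : G}
    (ha : a ∈ K) (hb : b ∈ K) (hc : c ∈ K) : Commute c ⁅a, b⁆ := by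
  have hK' : Three' K := fun h3 => by
    haveI : Fact (Nat.Prime 2) := ⟨Nat.prime_two⟩
    obtain ⟨n, hn⟩ := IsPGroup.iff_card.1 hK
    rw [hn] at h3
    have := Nat.prime_three.dvd_of_dvd_pow h3
    norm_num at this
  obtain ⟨hx, hn, hf⟩ := h.normalizer_data hK' hxK
  haveI := hn
  have := (FpfThree.class_two (d := (⟨x, hx⟩ : Subgroup.normalizer (K : Set G))) (Subtype.ext h.pow_three) hf
    (hK.comap_of_injective _ (Subgroup.subtype_injective _)) ⟨a, Subgroup.le_normalizer ha⟩ ha
    ⟨b, Subgroup.le_normalizer hb⟩ hb ⟨c, Subgroup.le_normalizer hc⟩ hc).map (Subgroup.subtype _)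
  simpa [commutatorElement_def] using this

/-- Every element of the coset `Kx` is conjugate to `x` under `K`. -/
theorem SC3.coset_conj (h : SC3 x) {K : Subgroup G} (hK : Three' K) (hxK : Inv' x K) {v : G} (hv : v ∈ K) :
    ∃ n ∈ K, n * x * n⁻¹ = v * x := by
  obtain ⟨n, hn, e⟩ := h.preimage hK hxK hv
  refine ⟨n⁻¹, inv_mem hn, ?_⟩
  rw [← e]
  group

theorem SC3.card_mod_three (h : SC3 x) {K : Subgroup G} (hK : Three' K) (hxK : Inv' x K) :
    Nat.card K % 3 = 1 := by
  haveI : Fact (Nat.Prime 3) := ⟨Nat.prime_three⟩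
  have hxn : Subgroup.zpowers x ≤ Subgroup.normalizer (K : Set G) :=
    Subgroup.zpowers_le.2 (inv'_iff_mem_normalizer.1 hxK)
  letI : MulAction (Subgroup.zpowers x) K :=
    { smul := fun z k => ⟨z.1 * k.1 * z.1⁻¹, (Subgroup.mem_normalizer_iff.1 (hxn z.2) k.1).1 k.2⟩
      one_smul := fun k => Subtype.ext (by show (1 : G) * k.1 * (1 : G)⁻¹ = k.1; simp)
      mul_smul := fun a b k => Subtype.ext (by
        show (a.1 * b.1) * k.1 * (a.1 * b.1)⁻¹ = a.1 * (b.1 * k.1 * b.1⁻¹) * a.1⁻¹
        group) }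
  have hp : IsPGroup 3 (Subgroup.zpowers x) := IsPGroup.of_card (n := 1) (by rw [h.card_zpowers, pow_one])
  have hm := hp.card_modEq_card_fixedPoints K
  have h1 : Nat.card (MulAction.fixedPoints (Subgroup.zpowers x) K) = 1 := by
    rw [Nat.card_eq_one_iff_unique]
    refine ⟨⟨fun a b => Subtype.ext ?_⟩, ⟨⟨1, fun z => Subtype.ext (by show z.1 * 1 * z.1⁻¹ = 1; simp)⟩⟩⟩
    have key : ∀ a : MulAction.fixedPoints (Subgroup.zpowers x) K, a.1 = 1 := fun a => Subtype.ext (by
      have e := congrArg Subtype.val (a.2 ⟨x, Subgroup.mem_zpowers x⟩)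
      refine h.fpf hK a.1.1 a.1.2 ?_
      have e' : x * a.1.1 * x⁻¹ = a.1.1 := e
      exact mul_inv_eq_iff_eq_mul.1 e')
    rw [key a, key b]
  rw [h1] at hm
  exact hm

/-- Subgroups of order prime to three normalized by `x` are nilpotent. -/
theorem SC3.nilpotent (h : SC3 x) {K : Subgroup G} (hK : Three' K) (hxK : Inv' x K) : Group.IsNilpotent K := by
  have hnormal : ∀ (p : ℕ) (_hp : Fact p.Prime) (P : Sylow p K), (P : Subgroup K).Normal := by
    intro p _ P
    have hcore : ∀ v : K, IsPGroup p (Subgroup.zpowers v) → v ∈ (P : Subgroup K) := by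
      intro v hv
      haveI hcomm : IsMulCommutative (Subgroup.normalClosure {v} : Subgroup K) := by
        refine Subgroup.isMulCommutative_closure fun a ha b hb => ?_
        rw [Group.mem_conjugatesOfSet_iff] at ha hb
        obtain ⟨a', ha', ha⟩ := ha
        obtain ⟨b', hb', hb⟩ := hb
        rw [Set.mem_singleton_iff.1 ha'] at ha
        rw [Set.mem_singleton_iff.1 hb'] at hb
        obtain ⟨g, rfl⟩ := isConj_iff.1 ha
        obtain ⟨g', rfl⟩ := isConj_iff.1 hb
        have hc : Commute v (g⁻¹ * g' * v * (g⁻¹ * g')⁻¹) :=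
          Subtype.ext (h.comm_conj hK hxK v.2 (g⁻¹ * g').2).eq
        have := hc.map (MulAut.conj g).toMonoidHom
        show Commute (g * v * g⁻¹) (g' * v * g'⁻¹)
        simpa [mul_assoc] using this
      have hpg : IsPGroup p (Subgroup.normalClosure {v} : Subgroup K) := by
        intro w
        suffices h : (w : K) ∈ (Subgroup.normalClosure {v} : Subgroup K) →
            ∃ k, (w : K) ^ p ^ k = 1 by
          obtain ⟨k, hk⟩ := h w.2
          exact ⟨k, Subtype.ext (by simpa using hk)⟩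
        intro hw
        have : ∀ z ∈ (Subgroup.normalClosure {v} : Subgroup K), ∃ k, z ^ p ^ k = 1 := by
          intro z hz
          induction hz using Subgroup.closure_induction with
          | mem z hz =>
            rw [Group.mem_conjugatesOfSet_iff] at hz
            obtain ⟨z', hz', hz⟩ := hz
            rw [Set.mem_singleton_iff.1 hz'] at hz
            obtain ⟨g, rfl⟩ := isConj_iff.1 hz
            obtain ⟨k, hk⟩ := hv ⟨v, Subgroup.mem_zpowers v⟩
            refine ⟨k, ?_⟩
            have hk' : v ^ p ^ k = 1 := congrArg Subtype.val hk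
            rw [conj_pow, hk']; group
          | one => exact ⟨0, one_pow _⟩
          | mul a b ha hb iha ihb =>
            obtain ⟨i, hi⟩ := iha
            obtain ⟨j, hj⟩ := ihb
            refine ⟨i + j, ?_⟩
            have hab : Commute a b := congrArg Subtype.val
              (mul_comm' (⟨a, ha⟩ : (Subgroup.normalClosure {v} : Subgroup K)) ⟨b, hb⟩)
            rw [hab.mul_pow, pow_add, pow_mul, hi, one_pow, mul_comm (p ^ i), pow_mul, hj, one_pow, one_mul]
          | inv a _ iha =>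
            obtain ⟨i, hi⟩ := iha
            exact ⟨i, by rw [inv_pow, hi, inv_one]⟩
        exact this w hw
      have hnP : (Subgroup.normalClosure {v} : Subgroup K) ≤ (P : Subgroup K) := by
        obtain ⟨Q, hQ⟩ := hpg.exists_le_sylow
        obtain ⟨g, rfl⟩ := MulAction.exists_smul_eq K Q P
        intro w hw
        rw [Sylow.coe_subgroup_smul, Subgroup.mem_pointwise_smul_iff_inv_smul_mem]
        apply hQ
        have := (inferInstance : (Subgroup.normalClosure {v} : Subgroup K).Normal).conj_mem w hw g⁻¹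
        simpa [MulAut.smul_def] using this
      exact hnP (Subgroup.subset_normalClosure rfl)
    refine ⟨fun v hv g => hcore _ ?_⟩
    have : IsPGroup p ((Subgroup.zpowers v).map (MulAut.conj g).toMonoidHom) :=
      (P.2.to_le (Subgroup.zpowers_le.2 hv)).map _
    rwa [MonoidHom.map_zpowers] at this
  exact (Group.isNilpotent_of_finite_tfae (G := K)).out 3 0 |>.1 hnormal

end CfsgLib.SelfCentThree
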