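import Mathlib

set_option autoImplicit false

/-!
Explicit facts about the alternating group of degree five and about `PSL(2,7)`.
-/

namespace CfsgLib.SelfCentThree

set_option maxRecDepth 100000 in
theorem a5_five : ∀ y h : alternatingGroup (Fin 5), y ^ 3 = 1 → y ≠ 1 → h ^ 5 = 1 → h ≠ 1 →
    y * h * y⁻¹ ∉ ({1, h, h ^ 2, h ^ 3, h ^ 4} : Finset (alternatingGroup (Fin 5))) := by decide +kernel

/-- The explicit configuration in the alternating group of degree five. -/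
def A5Wit (Q : Type*) [Group Q] : Prop :=
  ∃ y a b : Q, y ^ 3 = 1 ∧ y ≠ 1 ∧ a ^ 2 = 1 ∧ b ^ 2 = 1 ∧
    a * (y * a * y⁻¹) = y * y * a * (y * y)⁻¹ ∧ (y * a * y⁻¹) * a = y * y * a * (y * y)⁻¹ ∧
    b * (y * b * y⁻¹) = y * y * b * (y * y)⁻¹ ∧ (y * b * y⁻¹) * b = y * y * b * (y * y)⁻¹ ∧
    (a * b) ^ 3 = 1 ∧ a * b ≠ 1

/-- The explicit configuration in `PSL(2,7)` at the prime seven. -/
def L27Wit (Q : Type*) [Group Q] : Prop :=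
  ∃ y h k : Q, y ^ 3 = 1 ∧ y ≠ 1 ∧ h ^ 7 = 1 ∧ k ^ 7 = 1 ∧
    (∃ i : ℕ, y * h * y⁻¹ = h ^ i) ∧ (∃ i : ℕ, y * k * y⁻¹ = k ^ i) ∧ (h * k) ^ 3 = 1 ∧ h * k ≠ 1

theorem A5Wit.transport {Q Q' : Type*} [Group Q] [Group Q'] (e : Q ≃* Q') (h : A5Wit Q) : A5Wit Q' := by
  obtain ⟨y, a, b, h1, h2, h3, h4, h5, h6, h7, h8, h9, h10⟩ := h
  refine ⟨e y, e a, e b, by rw [← map_pow, h1, map_one], by simpa using h2,
    by rw [← map_pow, h3, map_one], by rw [← map_pow, h4, map_one], ?_, ?_, ?_, ?_,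
    by rw [← map_mul, ← map_pow, h9, map_one], fun q => h10 (e.injective (by rw [map_mul, q, map_one]))⟩
  all_goals simp only [← map_mul, ← map_inv]
  exacts [congrArg e h5, congrArg e h6, congrArg e h7, congrArg e h8]

theorem L27Wit.transport {Q Q' : Type*} [Group Q] [Group Q'] (e : Q ≃* Q') (h : L27Wit Q) : L27Wit Q' := by
  obtain ⟨y, a, b, h1, h2, h3, h4, ⟨i, h5⟩, ⟨j, h6⟩, h9, h10⟩ := h
  refine ⟨e y, e a, e b, by rw [← map_pow, h1, map_one], by simpa using h2,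
    by rw [← map_pow, h3, map_one], by rw [← map_pow, h4, map_one], ⟨i, ?_⟩, ⟨j, ?_⟩,
    by rw [← map_mul, ← map_pow, h9, map_one], fun q => h10 (e.injective (by rw [map_mul, q, map_one]))⟩
  · rw [← map_inv, ← map_mul, ← map_mul, h5, map_pow]
  · rw [← map_inv, ← map_mul, ← map_mul, h6, map_pow]

set_option maxRecDepth 100000 in
theorem a5_wit : A5Wit (alternatingGroup (Fin 5)) := by
  refine ⟨⟨Equiv.swap 0 1 * Equiv.swap 1 2, Equiv.Perm.mem_alternatingGroup.mpr (by decide)⟩,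
    ⟨Equiv.swap 0 1 * Equiv.swap 2 3, Equiv.Perm.mem_alternatingGroup.mpr (by decide)⟩,
    ⟨Equiv.swap 0 1 * Equiv.swap 2 4, Equiv.Perm.mem_alternatingGroup.mpr (by decide)⟩, ?_⟩
  decide +kernel

abbrev SL27 := Matrix.SpecialLinearGroup (Fin 2) (ZMod 7)
abbrev PSL27 := Matrix.ProjectiveSpecialLinearGroup (Fin 2) (ZMod 7)

def negOne : SL27 := ⟨!![-1, 0; 0, -1], by decide⟩

theorem negOne_central : negOne ∈ Subgroup.center SL27 := by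
  rw [Subgroup.mem_center_iff]
  intro g
  apply Subtype.ext
  show g.1 * negOne.1 = negOne.1 * g.1
  have : negOne.1 = (-1 : Matrix (Fin 2) (Fin 2) (ZMod 7)) := by decide
  rw [this, mul_neg, mul_one, neg_mul, one_mul]

theorem mk_eq {a b : SL27} (h : a = b ∨ a = negOne * b) :
    (QuotientGroup.mk a : PSL27) = QuotientGroup.mk b := by
  rcases h with rfl | rfl
  · rfl
  · rw [QuotientGroup.mk_mul, (QuotientGroup.eq_one_iff negOne).2 negOne_central, one_mul]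

theorem mk_ne {z g : SL27} (h : g * z ≠ z * g) : (QuotientGroup.mk z : PSL27) ≠ 1 := fun e =>
  h (Subgroup.mem_center_iff.1 ((QuotientGroup.eq_one_iff z).1 e) g)

def y7 : SL27 := ⟨!![2, 0; 0, 4], by decide⟩
def v7 : SL27 := ⟨!![3, 1; 4, 4], by decide⟩
def w7 : SL27 := ⟨!![3, 5; 5, 4], by decide⟩
def h7 : SL27 := ⟨!![1, 0; 4, 1], by decide⟩
def k7 : SL27 := ⟨!![1, 1; 0, 1], by decide⟩

set_option maxRecDepth 100000 in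
theorem sl27_facts :
    (y7 ^ 3 = 1 ∨ y7 ^ 3 = negOne * 1) ∧ k7 * y7 ≠ y7 * k7 ∧ (v7 ^ 2 = 1 ∨ v7 ^ 2 = negOne * 1) ∧
    (w7 ^ 2 = 1 ∨ w7 ^ 2 = negOne * 1) ∧
    (v7 * (y7 * v7 * y7⁻¹) = y7 * y7 * v7 * (y7 * y7)⁻¹ ∨
      v7 * (y7 * v7 * y7⁻¹) = negOne * (y7 * y7 * v7 * (y7 * y7)⁻¹)) ∧
    ((y7 * v7 * y7⁻¹) * v7 = y7 * y7 * v7 * (y7 * y7)⁻¹ ∨
      (y7 * v7 * y7⁻¹) * v7 = negOne * (y7 * y7 * v7 * (y7 * y7)⁻¹)) ∧
    (w7 * (y7 * w7 * y7⁻¹) = y7 * y7 * w7 * (y7 * y7)⁻¹ ∨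
      w7 * (y7 * w7 * y7⁻¹) = negOne * (y7 * y7 * w7 * (y7 * y7)⁻¹)) ∧
    ((y7 * w7 * y7⁻¹) * w7 = y7 * y7 * w7 * (y7 * y7)⁻¹ ∨
      (y7 * w7 * y7⁻¹) * w7 = negOne * (y7 * y7 * w7 * (y7 * y7)⁻¹)) ∧
    ((v7 * w7) ^ 3 = 1 ∨ (v7 * w7) ^ 3 = negOne * 1) ∧ k7 * (v7 * w7) ≠ (v7 * w7) * k7 ∧
    h7 ^ 7 = 1 ∧ k7 ^ 7 = 1 ∧ (y7 * h7 * y7⁻¹ = h7 ^ 2 ∨ y7 * h7 * y7⁻¹ = negOne * h7 ^ 2) ∧
    (y7 * k7 * y7⁻¹ = k7 ^ 4 ∨ y7 * k7 * y7⁻¹ = negOne * k7 ^ 4) ∧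
    ((h7 * k7) ^ 3 = 1 ∨ (h7 * k7) ^ 3 = negOne * 1) ∧ k7 * (h7 * k7) ≠ (h7 * k7) * k7 := by
  decide +kernel

theorem l27_four : A5Wit PSL27 := by
  obtain ⟨h1, h2, h3, h4, h5, h6, h7, h8, h9, h10, -⟩ := sl27_facts
  exact ⟨QuotientGroup.mk y7, QuotientGroup.mk v7, QuotientGroup.mk w7, mk_eq (b := 1) h1, mk_ne h2,
    mk_eq (b := 1) h3, mk_eq (b := 1) h4, mk_eq h5, mk_eq h6, mk_eq h7, mk_eq h8, mk_eq (b := 1) h9, mk_ne h10⟩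

theorem l27_seven : L27Wit PSL27 := by
  obtain ⟨h1, h2, -, -, -, -, -, -, -, -, h3, h4, h5, h6, h7', h8⟩ := sl27_facts
  exact ⟨QuotientGroup.mk y7, QuotientGroup.mk h7, QuotientGroup.mk k7, mk_eq (b := 1) h1, mk_ne h2,
    mk_eq (b := 1) (Or.inl h3), mk_eq (b := 1) (Or.inl h4), ⟨2, mk_eq h5⟩, ⟨4, mk_eq h6⟩,
    mk_eq (b := 1) h7', mk_ne h8⟩

end CfsgLib.SelfCentThree
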