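import Mathlib
import Cfsg.Agent.Lib.SelfCentThree.Basic
import Cfsg.Agent.Lib.SelfCentThree.Models

set_option autoImplicit false

/-!
The three shapes of a group with a self-centralizing element of order three, and their consequences for the
subgroups of order prime to three which the element normalizes.
-/

namespace CfsgLib.SelfCentThree

universe u

/-- The conclusion of the theorem of Feit and Thompson. -/
def Tri (G : Type u) [Group G] : Prop :=
    (∃ (N : Subgroup G) (hN : N.Normal), Group.IsNilpotent N ∧ (Nat.card N).Coprime 3 ∧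
        (Nat.card (G ⧸ N) = 3 ∨ Nonempty (G ⧸ N ≃* Equiv.Perm (Fin 3)))) ∨
    (∃ (N : Subgroup G) (hN : N.Normal), IsMulCommutative N ∧ (∀ n ∈ N, n ^ 2 = 1) ∧
        Nonempty (G ⧸ N ≃* alternatingGroup (Fin 5))) ∨
    Nonempty (G ≃* Matrix.ProjectiveSpecialLinearGroup (Fin 2) (ZMod 7))

variable {G : Type u} [Group G] [Finite G] {x : G}

theorem SC3.quot (h : SC3 x) (N : Subgroup G) [N.Normal] (hN : Three' N) : SC3 (QuotientGroup.mk' N x) where
  ord := by
    haveI := Fact.mk Nat.prime_three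
    refine orderOf_eq_prime (by rw [← map_pow, h.pow_three, map_one]) fun e => ?_
    exact h.ne_one (h.fpf hN x ((QuotientGroup.eq_one_iff x).1 e) (Commute.refl x))
  cent y hy := by
    obtain ⟨g, rfl⟩ := QuotientGroup.mk'_surjective N y
    have hxK : Inv' x N := inv'_iff_mem_normalizer.2 (by rw [Subgroup.normalizer_eq_top N]; trivial)
    have hv : g * x * g⁻¹ * x⁻¹ ∈ N := by
      rw [← QuotientGroup.eq_one_iff, ← QuotientGroup.mk'_apply, map_mul, map_mul, map_mul, map_inv, map_inv]
      rw [hy.symm.eq]; group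
    obtain ⟨n, hn, e⟩ := h.coset_conj hN hxK hv
    have hc : Commute x (n⁻¹ * g) := by
      have e' : n * x * n⁻¹ = g * x * g⁻¹ := by rw [e]; group
      calc x * (n⁻¹ * g) = n⁻¹ * (n * x * n⁻¹) * g := by group
        _ = n⁻¹ * g * x := by rw [e']; group
    obtain ⟨k, hk⟩ := Subgroup.mem_zpowers_iff.1 (h.cent _ hc)
    refine Subgroup.mem_zpowers_iff.2 ⟨k, ?_⟩
    rw [← map_zpow, hk, map_mul, show QuotientGroup.mk' N n⁻¹ = 1 from (QuotientGroup.eq_one_iff _).2 (inv_mem hn),
      one_mul]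

omit [Finite G] in
theorem three'_map {H : Type*} [Group H] (f : G →* H) {K : Subgroup G} (hK : Three' K) : Three' (K.map f) :=
  fun e => hK (e.trans (Subgroup.card_map_dvd K f))

omit [Finite G] in
theorem inv'_map {H : Type*} [Group H] (f : G →* H) {K : Subgroup G} (hxK : Inv' x K) : Inv' (f x) (K.map f) := by
  rw [inv'_iff_mem_normalizer] at hxK ⊢
  exact Subgroup.le_normalizer_map f (Subgroup.mem_map_of_mem f hxK)

theorem inv'_of_le {K : Subgroup G} (h : ∀ k ∈ K, x * k * x⁻¹ ∈ K) : Inv' x K :=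
  inv'_iff_mem_normalizer.2 (Subgroup.mem_normalizer_iff_map_conj_eq.2 (Subgroup.eq_of_le_of_card_ge
    (by rintro _ ⟨k, hk, rfl⟩; exact h k hk) (Nat.card_congr (K.equivMapOfInjective _ (MulEquiv.injective _)).toEquiv).le))

/-- A pairwise commuting set of elements killed by `n` generates a subgroup killed by `n`. -/
theorem closure_pow {S : Set G} (hc : ∀ a ∈ S, ∀ b ∈ S, Commute a b) {n : ℕ} (hn : ∀ a ∈ S, a ^ n = 1) :
    ∀ k ∈ Subgroup.closure S, k ^ n = 1 := by
  intro k hk
  haveI : IsMulCommutative (Subgroup.closure S) := Subgroup.isMulCommutative_closure fun a ha b hb => (hc a ha b hb).eq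
  induction hk using Subgroup.closure_induction with
  | mem a ha => exact hn a ha
  | one => exact one_pow n
  | mul a b ha hb iha ihb =>
    have hab : Commute a b := congrArg Subtype.val (mul_comm' (⟨a, ha⟩ : Subgroup.closure S) ⟨b, hb⟩)
    rw [hab.mul_pow, iha, ihb, one_mul]
  | inv a _ iha => rw [inv_pow, iha, inv_one]

omit [Finite G] in
theorem prime_dvd_card_pow {K : Subgroup G} [Finite K] {n : ℕ} (hK : ∀ k ∈ K, k ^ n = 1) {q : ℕ} (hq : q.Prime)
    (hd : q ∣ Nat.card K) : q ∣ n := by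
  haveI := Fact.mk hq
  obtain ⟨k, hk⟩ := exists_prime_orderOf_dvd_card' (G := K) q hd
  rw [← hk, ← Subgroup.orderOf_coe]
  exact orderOf_dvd_of_pow_eq_one (hK k.1 k.2)

/-- The four-group generated by the orbit of an involution. -/
theorem four_group {y a : G} (ha : a ^ 2 = 1) (hy : y ^ 3 = 1)
    (h1 : a * (y * a * y⁻¹) = y * y * a * (y * y)⁻¹) (h2 : (y * a * y⁻¹) * a = y * y * a * (y * y)⁻¹) :
    ∃ A : Subgroup G, Inv' y A ∧ a ∈ A ∧ (∀ k ∈ A, k ^ 2 = 1) := by
  set b := y * a * y⁻¹ with hb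
  have hab : Commute a b := h1.trans h2.symm
  have hS : ∀ z ∈ ({a, b} : Set G), z ^ 2 = 1 := by
    rintro z (rfl | rfl)
    · exact ha
    · rw [hb, conj_pow, ha]; group
  have hc : ∀ z ∈ ({a, b} : Set G), ∀ w ∈ ({a, b} : Set G), Commute z w := by
    rintro z (rfl | rfl) w (rfl | rfl)
    exacts [Commute.refl _, hab, hab.symm, Commute.refl _]
  refine ⟨Subgroup.closure {a, b}, inv'_of_le fun k hk => ?_, Subgroup.subset_closure (by simp), closure_pow hc hS⟩
  have hbS : b ∈ Subgroup.closure ({a, b} : Set G) := Subgroup.subset_closure (by simp)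
  have haS : a ∈ Subgroup.closure ({a, b} : Set G) := Subgroup.subset_closure (by simp)
  induction hk using Subgroup.closure_induction with
  | mem z hz =>
    rcases hz with rfl | rfl
    · exact hbS
    · rw [show y * b * y⁻¹ = y * y * a * (y * y)⁻¹ by rw [hb]; group, ← h1]
      exact mul_mem haS hbS
  | one => simp
  | mul z w _ _ ihz ihw => rw [show y * (z * w) * y⁻¹ = (y * z * y⁻¹) * (y * w * y⁻¹) by group]; exact mul_mem ihz ihw
  | inv z _ ihz => rw [show y * z⁻¹ * y⁻¹ = (y * z * y⁻¹)⁻¹ by group]; exact inv_mem ihz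

/-- Shape A: every normalized subgroup of order prime to three lies in one normal subgroup. -/
structure ShapeA (G : Type u) [Group G] (N : Subgroup G) : Prop where
  /-- normal -/
  normal : N.Normal
  /-- prime to three -/
  three' : Three' N
  /-- index -/
  index : N.index = 3 ∨ N.index = 6
  /-- absorbs -/
  absorb : ∀ (K : Subgroup G) (y : G), orderOf y = 3 → Three' K → Inv' y K → K ≤ N

/-- Shape B: a nontrivial elementary normal two-subgroup with quotient of order sixty. -/
structure ShapeB (G : Type u) [Group G] (N : Subgroup G) : Prop where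
  /-- normal -/
  normal : N.Normal
  /-- nontrivial -/
  ne_bot : N ≠ ⊥
  /-- exponent two -/
  sq : ∀ n ∈ N, n ^ 2 = 1
  /-- quotient -/
  quot : haveI := normal; Nonempty (G ⧸ N ≃* alternatingGroup (Fin 5))

theorem shapeA_of (h : SC3 x) (N : Subgroup G) [hN : N.Normal] (h3 : Three' N)
    (hq : Nat.card (G ⧸ N) = 3 ∨ Nonempty (G ⧸ N ≃* Equiv.Perm (Fin 3))) : ShapeA G N := by
  refine ⟨hN, h3, ?_, ?_⟩
  · rcases hq with e | e'
    · exact Or.inl e
    · obtain ⟨e⟩ := e'
      refine Or.inr ?_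
      rw [Subgroup.index, Nat.card_congr e.toEquiv, Nat.card_perm, Nat.card_fin]; rfl
  · intro K y hy hK hyK k hk
    rw [← QuotientGroup.eq_one_iff]
    set f := QuotientGroup.mk' N
    have hK' := three'_map f hK
    have hsy := ((h.of_order hy).quot N h3)
    have hinv := inv'_map f hyK
    have hmem : f k ∈ K.map f := Subgroup.mem_map_of_mem f hk
    rcases hq with e | e'
    · have h1 : Nat.card (K.map f) = 1 := by
        rcases (Nat.dvd_prime Nat.prime_three).1 (e ▸ (K.map f).card_subgroup_dvd_card) with e1 | e1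
        · exact e1
        · exact absurd (e1 ▸ dvd_rfl) hK'
      rw [Subgroup.card_eq_one] at h1
      rw [h1] at hmem
      exact hmem
    · obtain ⟨e⟩ := e'
      have h6 : Nat.card (G ⧸ N) = 6 := by rw [Nat.card_congr e.toEquiv, Nat.card_perm, Nat.card_fin]; rfl
      have hd : Nat.card (K.map f) ∣ 2 := by
        have h1 := h6 ▸ (K.map f).card_subgroup_dvd_card
        exact (Nat.Coprime.dvd_of_dvd_mul_right
          ((Nat.Prime.coprime_iff_not_dvd Nat.prime_three).2 hK').symm (show Nat.card (K.map f) ∣ 2 * 3 from h1))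
      have hle := Nat.le_of_dvd (by norm_num) hd
      have hm1 := hsy.card_mod_three hK' hinv
      have h1 : Nat.card (K.map f) = 1 := by omega
      rw [Subgroup.card_eq_one] at h1
      rw [h1] at hmem
      exact hmem

theorem ShapeA.index_dvd {N : Subgroup G} (hA : ShapeA G N) : N.index ∣ 6 := by
  rcases hA.index with e | e <;> rw [e]; norm_num

theorem ShapeB.three' (N : Subgroup G) (hB : ShapeB G N) : Three' N := fun h => by
  have := prime_dvd_card_pow hB.sq Nat.prime_three h
  norm_num at this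

theorem simple_l27 : IsSimpleGroup PSL27 := by
  haveI : Fact (Nat.Prime 7) := ⟨by norm_num⟩
  exact Matrix.ProjectiveSpecialLinearGroup.rank_two_simple (F := ZMod 7) (by rw [Nat.card_zmod]; norm_num)

/-- With a nontrivial normal subgroup of order prime to three only the two affine shapes occur. -/
theorem shape_of_tri (h : SC3 x) (ht : Tri G) (D : Subgroup G) [D.Normal] (hD : Three' D) (hD1 : D ≠ ⊥) :
    (∃ N, ShapeA G N) ∨ ∃ N, ShapeB G N := by
  haveI : Nontrivial G := ⟨⟨x, 1, h.ne_one⟩⟩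
  rcases ht with ⟨N, hN, -, hco, hq⟩ | ⟨N, hN, hcom, hsq, he⟩ | he
  · haveI := hN
    exact Or.inl ⟨N, shapeA_of h N ((Nat.Prime.coprime_iff_not_dvd Nat.prime_three).1 hco.symm) hq⟩
  · obtain ⟨e⟩ := he
    by_cases hb : N = ⊥
    · exfalso
      subst hb
      let e' : G ≃* alternatingGroup (Fin 5) := QuotientGroup.quotientBot.symm.trans e
      haveI : IsSimpleGroup G := IsSimpleGroup.isSimpleGroup_of_surjective e'.symm.toMonoidHom e'.symm.surjective
      rcases ‹D.Normal›.eq_bot_or_eq_top with e1 | e1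
      · exact hD1 e1
      · exact hD (by rw [e1, Subgroup.card_top, ← h.ord]; exact orderOf_dvd_natCard x)
    · exact Or.inr ⟨N, hN, hb, hsq, ⟨e⟩⟩
  · exfalso
    obtain ⟨e⟩ := he
    haveI := simple_l27
    haveI : IsSimpleGroup G := IsSimpleGroup.isSimpleGroup_of_surjective e.symm.toMonoidHom e.symm.surjective
    rcases ‹D.Normal›.eq_bot_or_eq_top with e1 | e1
    · exact hD1 e1
    · exact hD (by rw [e1, Subgroup.card_top, ← h.ord]; exact orderOf_dvd_natCard x)

/-- In shape B the normalized subgroups of order prime to three are two-groups. -/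
theorem ShapeB.isPGroup {N : Subgroup G} (hB : ShapeB G N) (h : SC3 x) {K : Subgroup G} (hK : Three' K)
    (hxK : Inv' x K) : IsPGroup 2 K := by
  haveI := hB.normal
  obtain ⟨e⟩ := hB.quot
  haveI : Fact (Nat.Prime 2) := ⟨Nat.prime_two⟩
  by_contra hne
  obtain ⟨q, hq, hq2, hqd⟩ : ∃ q, q.Prime ∧ q ≠ 2 ∧ q ∣ Nat.card K := by
    by_contra hall
    push Not at hall
    apply hne
    obtain ⟨n, hn⟩ : ∃ n, Nat.card K = 2 ^ n := ⟨_, Nat.eq_prime_pow_of_unique_prime_dvd Nat.card_pos.ne'
      fun {d} hd hdd => by by_contra h2; exact hall d hd h2 hdd⟩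
    exact IsPGroup.of_card hn
  haveI := Fact.mk hq
  obtain ⟨k, hk⟩ := exists_prime_orderOf_dvd_card' (G := K) q hqd
  set f : G →* alternatingGroup (Fin 5) := e.toMonoidHom.comp (QuotientGroup.mk' N)
  have hker : ∀ g, f g = 1 → g ∈ N := fun g hg => by
    rw [← QuotientGroup.eq_one_iff]
    exact e.injective (by simpa [f] using hg)
  have hko : orderOf (k : G) = q := by rw [Subgroup.orderOf_coe, hk]
  have hf1 : f k ≠ 1 := fun he => by
    have h2 := orderOf_dvd_of_pow_eq_one (hB.sq _ (hker _ he))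
    rw [hko] at h2
    exact hq2 ((Nat.prime_dvd_prime_iff_eq hq Nat.prime_two).1 h2)
  have hfq : orderOf (f k) = q :=
    (hq.eq_one_or_self_of_dvd _ (hko ▸ orderOf_map_dvd f k.1)).resolve_left fun e => hf1 (orderOf_eq_one_iff.1 e)
  have h60 : Nat.card (alternatingGroup (Fin 5)) = 60 := by
    rw [Nat.card_eq_fintype_card]; decide +kernel
  have hq5 : q = 5 := by
    have hd : q ∣ 60 := h60 ▸ hfq ▸ orderOf_dvd_natCard (f k)
    have hq3 : q ≠ 3 := fun e => hK (e ▸ hqd)
    rcases (Nat.Prime.dvd_mul hq).1 (show q ∣ 12 * 5 from hd) with h1 | h1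
    · rcases (Nat.Prime.dvd_mul hq).1 (show q ∣ 4 * 3 from h1) with h2 | h2
      · exact absurd ((Nat.prime_dvd_prime_iff_eq hq Nat.prime_two).1 (hq.dvd_of_dvd_pow (show q ∣ 2 ^ 2 from h2))) hq2
      · exact absurd ((Nat.prime_dvd_prime_iff_eq hq Nat.prime_three).1 h2) hq3
    · exact (Nat.prime_dvd_prime_iff_eq hq (by norm_num)).1 h1
  subst hq5
  haveI := h.nilpotent hK hxK
  obtain ⟨P, hP⟩ := (IsPGroup.of_card (p := 5) (n := 1) (G := Subgroup.zpowers k)
    (by rw [Nat.card_zpowers, hk, pow_one])).exists_le_sylow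
  haveI hPn : (P : Subgroup K).Normal := inferInstance
  haveI := Sylow.unique_of_normal P hPn
  -- the image of the Sylow five-subgroup
  set P' : Subgroup (alternatingGroup (Fin 5)) := ((P : Subgroup K).map K.subtype).map f
  have hP' : IsPGroup 5 P' := (P.2.map _).map _
  have hP'card : Nat.card P' ≤ 5 := by
    obtain ⟨n, hn⟩ := IsPGroup.iff_card.1 hP'
    have hd : 5 ^ n ∣ 60 := hn ▸ h60 ▸ P'.card_subgroup_dvd_card
    have : n ≤ 1 := by
      by_contra h2
      have := (pow_dvd_pow 5 (show 2 ≤ n by omega)).trans hd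
      norm_num at this
    rw [hn]
    calc 5 ^ n ≤ 5 ^ 1 := Nat.pow_le_pow_right (by norm_num) this
      _ = 5 := pow_one 5
  have hz : Subgroup.zpowers (f k) = P' := by
    refine Subgroup.eq_of_le_of_card_ge (Subgroup.zpowers_le.2
      (Subgroup.mem_map_of_mem f (Subgroup.mem_map_of_mem K.subtype (hP (Subgroup.mem_zpowers k))))) ?_
    rw [Nat.card_zpowers, hfq]; exact hP'card
  let c : MulAut K :=
    { toFun := fun w => ⟨x * w.1 * x⁻¹, (hxK w.1).1 w.2⟩
      invFun := fun w => ⟨x⁻¹ * w.1 * x, (hxK _).2 (by simpa [mul_assoc] using w.2)⟩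
      left_inv := fun w => Subtype.ext (by simp [mul_assoc])
      right_inv := fun w => Subtype.ext (by simp [mul_assoc])
      map_mul' := fun a b => Subtype.ext (by simp [mul_assoc]) }
  have hcP : c k ∈ (P : Subgroup K) := by
    have h1 : IsPGroup 5 ((Subgroup.zpowers k).map c.toMonoidHom) :=
      (P.2.to_le hP).map _
    obtain ⟨Q, hQ⟩ := h1.exists_le_sylow
    rw [Subsingleton.elim Q P] at hQ
    exact hQ (Subgroup.mem_map_of_mem _ (Subgroup.mem_zpowers k))
  have hmem : f x * f k * (f x)⁻¹ ∈ Subgroup.zpowers (f k) := by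
    rw [hz, ← map_mul, ← map_inv, ← map_mul]
    exact Subgroup.mem_map_of_mem f (Subgroup.mem_map_of_mem K.subtype hcP)
  have hfx : f x ≠ 1 := fun he => h.ne_one (h.fpf (hB.three') x (hker x he) (Commute.refl x))
  refine a5_five (f x) (f k) (by rw [← map_pow, h.pow_three, map_one]) hfx
    (orderOf_dvd_iff_pow_eq_one.1 (dvd_of_eq hfq)) hf1 ?_
  obtain ⟨i, hi⟩ := (isOfFinOrder_of_finite (f k)).mem_powers_iff_mem_zpowers.2 hmem
  have hmod : f k ^ i = f k ^ (i % 5) := by
    conv_lhs => rw [← pow_mod_orderOf, hfq]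
  rw [← show f k ^ i = f x * f k * (f x)⁻¹ from hi, hmod]
  have : i % 5 < 5 := Nat.mod_lt _ (by norm_num)
  rcases (show i % 5 = 0 ∨ i % 5 = 1 ∨ i % 5 = 2 ∨ i % 5 = 3 ∨ i % 5 = 4 by omega) with e | e | e | e | e <;>
    simp [e]

/-- In shape B a subgroup of order prime to three which is normal lies in the kernel. -/
theorem ShapeB.normal_le {N : Subgroup G} (hB : ShapeB G N) (h : SC3 x) (M : Subgroup G) [M.Normal]
    (hM : Three' M) : M ≤ N := by
  haveI := hB.normal
  obtain ⟨e⟩ := hB.quot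
  haveI : Nontrivial (G ⧸ N) := ⟨⟨_, 1, (h.quot N hB.three').ne_one⟩⟩
  haveI : IsSimpleGroup (G ⧸ N) := IsSimpleGroup.isSimpleGroup_of_surjective e.symm.toMonoidHom e.symm.surjective
  have hn : (M.map (QuotientGroup.mk' N)).Normal :=
    Subgroup.Normal.map inferInstance _ (QuotientGroup.mk'_surjective N)
  rcases hn.eq_bot_or_eq_top with e1 | e1
  · rw [Subgroup.map_eq_bot_iff, QuotientGroup.ker_mk'] at e1; exact e1
  · exfalso
    apply three'_map (QuotientGroup.mk' N) hM
    rw [e1, Subgroup.card_top, ← (h.quot N hB.three').ord]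
    exact orderOf_dvd_natCard _

/-- In shape B the kernel is not a maximal normalized subgroup. -/
theorem ShapeB.exists_bigger {N : Subgroup G} (hB : ShapeB G N) (h : SC3 x) :
    ∃ K : Subgroup G, N < K ∧ Three' K ∧ Inv' x K := by
  haveI := hB.normal
  obtain ⟨e⟩ := hB.quot
  obtain ⟨y, a, b, hy, hy1, ha, hb, h1, h2, h7, h8, hab, hab1⟩ := a5_wit.transport e.symm
  have hsx := h.quot N hB.three'
  haveI := Fact.mk Nat.prime_three
  have hyo : orderOf y = 3 := orderOf_eq_prime hy hy1
  have hab0 : a ≠ 1 ∨ b ≠ 1 := by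
    by_contra hh; push Not at hh; exact hab1 (by rw [hh.1, hh.2, one_mul])
  obtain ⟨A, hyA, hA, hA1⟩ : ∃ A : Subgroup (G ⧸ N), Inv' y A ∧ (∀ k ∈ A, k ^ 2 = 1) ∧ A ≠ ⊥ := by
    rcases hab0 with ha1 | hb1
    · obtain ⟨A, h3, h4, h5⟩ := four_group ha hy h1 h2
      exact ⟨A, h3, h5, fun e => ha1 (by rw [e] at h4; exact h4)⟩
    · obtain ⟨A, h3, h4, h5⟩ := four_group hb hy h7 h8
      exact ⟨A, h3, h5, fun e => hb1 (by rw [e] at h4; exact h4)⟩
  obtain ⟨g, hg⟩ := hsx.conj_zpowers hyo
  set φ := (MulAut.conj g⁻¹).toMonoidHom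
  have hAx : Inv' (QuotientGroup.mk' N x) (A.map φ) := by
    have := inv'_map φ hyA
    rcases hg with rfl | rfl
    · simpa [φ, mul_assoc] using this
    · rw [inv'_iff_mem_normalizer] at this ⊢
      have e' : φ (g * (QuotientGroup.mk' N x)⁻¹ * g⁻¹) = (QuotientGroup.mk' N x)⁻¹ := by simp [φ, mul_assoc]
      rw [e'] at this
      simpa using inv_mem this
  refine ⟨(A.map φ).comap (QuotientGroup.mk' N), ?_, ?_, ?_⟩
  · refine lt_of_le_of_ne (fun n hn => ?_) fun e1 => hA1 ?_
    · rw [Subgroup.mem_comap, show QuotientGroup.mk' N n = 1 from (QuotientGroup.eq_one_iff n).2 hn]; exact one_mem _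
    · have h2 : A.map φ = ⊥ := by
        rw [← Subgroup.map_comap_eq_self_of_surjective (QuotientGroup.mk'_surjective N) (A.map φ), ← e1,
          Subgroup.map_eq_bot_iff, QuotientGroup.ker_mk']
      exact Subgroup.map_eq_bot_iff_of_injective A (f := φ) (MulEquiv.injective _) |>.1 h2
  · intro h3
    have hpow : ∀ k ∈ (A.map φ).comap (QuotientGroup.mk' N), k ^ 4 = 1 := by
      intro k hk
      obtain ⟨a', ha', e'⟩ := hk
      have : QuotientGroup.mk' N (k ^ 2) = 1 := by rw [map_pow, ← e', ← map_pow, hA a' ha', map_one]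
      rw [show (4 : ℕ) = 2 * 2 from rfl, pow_mul]
      exact hB.sq _ ((QuotientGroup.eq_one_iff _).1 this)
    have := prime_dvd_card_pow hpow Nat.prime_three h3
    norm_num at this
  · intro k
    simp only [Subgroup.mem_comap]
    rw [map_mul, map_mul, map_inv]
    exact hAx _

end CfsgLib.SelfCentThree
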