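import Mathlib
import Cfsg.Agent.Lib.SelfCentThree.Shape

set_option autoImplicit false

/-!
Maximal subgroups of order prime to three normalized by a self-centralizing element of order three, in a simple
group all of whose proper subgroups have one of the three shapes.
-/

namespace CfsgLib.SelfCentThree

open scoped commutatorElement

universe u

variable {G : Type u} [Group G] [Finite G]

/-- The standing hypothesis. -/
structure Setup (G : Type u) [Group G] : Prop where
  /-- simple -/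
  simple : IsSimpleGroup G
  /-- not commutative -/
  nc : ¬ IsMulCommutative G
  /-- induction hypothesis -/
  ih : ∀ (H : Subgroup G) (x : G), H ≠ ⊤ → x ∈ H → SC3 x → Tri H

/-- A maximal normalized subgroup of order prime to three. -/
structure Max (x : G) (M : Subgroup G) : Prop where
  /-- prime to three -/
  three' : Three' M
  /-- normalized -/
  inv : Inv' x M
  /-- nontrivial -/
  ne_bot : M ≠ ⊥
  /-- maximal -/
  max : ∀ L : Subgroup G, Three' L → Inv' x L → M ≤ L → L ≤ M

variable {x : G}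

theorem map_conj_card (g : G) (M : Subgroup G) :
    Nat.card (M.map (MulAut.conj g).toMonoidHom) = Nat.card M :=
  Nat.card_congr (M.equivMapOfInjective _ (MulEquiv.injective _)).symm.toEquiv

theorem mem_map_conj {g : G} {M : Subgroup G} {k : G} :
    k ∈ M.map (MulAut.conj g).toMonoidHom ↔ g⁻¹ * k * g ∈ M := by
  constructor
  · rintro ⟨m, hm, rfl⟩
    simpa [mul_assoc] using hm
  · intro h
    exact ⟨_, h, by simp [mul_assoc]⟩

theorem map_conj_mul (a b : G) (M : Subgroup G) :
    (M.map (MulAut.conj b).toMonoidHom).map (MulAut.conj a).toMonoidHom = M.map (MulAut.conj (a * b)).toMonoidHom := by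
  ext k
  simp [mem_map_conj, mul_assoc]

theorem inv'_iff_map {y : G} {M : Subgroup G} : Inv' y M ↔ M.map (MulAut.conj y).toMonoidHom = M := by
  rw [inv'_iff_mem_normalizer, Subgroup.mem_normalizer_iff_map_conj_eq]
  rfl

theorem inv'_conj {g : G} {M : Subgroup G} (h : Inv' x M) :
    Inv' (g * x * g⁻¹) (M.map (MulAut.conj g).toMonoidHom) := by
  have := inv'_map (MulAut.conj g).toMonoidHom h
  simpa using this

theorem inv'_inv {M : Subgroup G} (h : Inv' x M) : Inv' x⁻¹ M :=
  inv'_iff_mem_normalizer.2 (inv_mem (inv'_iff_mem_normalizer.1 h))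

theorem Max.conj {M : Subgroup G} (hM : Max x M) (g : G) :
    Max (g * x * g⁻¹) (M.map (MulAut.conj g).toMonoidHom) where
  three' := three'_map _ hM.three'
  inv := inv'_conj hM.inv
  ne_bot e := hM.ne_bot ((Subgroup.map_eq_bot_iff_of_injective _ (MulEquiv.injective _)).1 e)
  max L hL hxL hle := by
    have h1 := inv'_conj (g := g⁻¹) hxL
    rw [show g⁻¹ * (g * x * g⁻¹) * g⁻¹⁻¹ = x by group] at h1
    have h2 := hM.max _ (three'_map _ hL) h1 (fun k hk => mem_map_conj.2 (hle (mem_map_conj.2 (by simpa [mul_assoc] using hk))))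
    intro k hk
    exact mem_map_conj.2 (h2 (mem_map_conj.2 (by simpa [mul_assoc] using hk)))

theorem exists_max {K : Subgroup G} (hK : Three' K) (hxK : Inv' x K) (h1 : K ≠ ⊥) :
    ∃ M, Max x M ∧ K ≤ M := by
  obtain ⟨M, hM⟩ := Set.Finite.exists_maximal (s := {L : Subgroup G | Three' L ∧ Inv' x L ∧ K ≤ L})
    (Set.toFinite _) ⟨K, hK, hxK, le_rfl⟩
  exact ⟨M, ⟨hM.1.1, hM.1.2.1, fun e => h1 (le_bot_iff.1 (e ▸ hM.1.2.2)),
    fun L hL hxL hle => hM.2 ⟨hL, hxL, hM.1.2.2.trans hle⟩ hle⟩, hM.1.2.2⟩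

theorem Setup.ne_top (S : Setup G) (h : SC3 x) {K : Subgroup G} (hK : Three' K) (h1 : K ≠ ⊥) :
    Subgroup.normalizer (K : Set G) ≠ ⊤ := by
  intro e
  haveI := S.simple
  rcases (Subgroup.normalizer_eq_top_iff.1 e).eq_bot_or_eq_top with e1 | e1
  · exact h1 e1
  · exact hK (by rw [e1, Subgroup.card_top, ← h.ord]; exact orderOf_dvd_natCard x)

theorem exists_inverting (S : Setup G) (h : SC3 x) : ∃ t : G, t ^ 2 = 1 ∧ t * x * t⁻¹ = x⁻¹ := by
  haveI : Fact (Nat.Prime 3) := ⟨Nat.prime_three⟩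
  obtain ⟨P, hP⟩ := (IsPGroup.of_card (p := 3) (n := 1) (G := Subgroup.zpowers x)
    (by rw [h.card_zpowers, pow_one])).exists_le_sylow
  have hPe : (P : Subgroup G) = Subgroup.zpowers x :=
    (Subgroup.eq_of_le_of_card_ge hP (by rw [h.sylow_card P, h.card_zpowers])).symm
  by_cases hb : Subgroup.normalizer ((P : Subgroup G) : Set G) ≤ Subgroup.centralizer ((P : Subgroup G) : Set G)
  · exfalso
    have hc := MonoidHom.ker_transferSylow_isComplement' P hb
    haveI := S.simple
    rcases (MonoidHom.normal_ker (MonoidHom.transferSylow P hb)).eq_bot_or_eq_top with e | e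
    · have h2 := hc.card_mul
      rw [e, Subgroup.card_bot, one_mul, h.sylow_card P] at h2
      haveI : IsCyclic G := isCyclic_of_prime_card h2.symm
      exact S.nc inferInstance
    · have h2 := hc.card_mul
      rw [e, Subgroup.card_top, h.sylow_card P] at h2
      have := Nat.card_pos (α := G)
      omega
  obtain ⟨g, hg, hgc⟩ := SetLike.not_le_iff_exists.1 hb
  have hgx : g * x * g⁻¹ = x⁻¹ := by
    have hm : g * x * g⁻¹ ∈ Subgroup.zpowers x := by
      rw [← hPe]
      exact (Subgroup.mem_normalizer_iff.1 hg x).1 (hPe ▸ Subgroup.mem_zpowers x)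
    rcases h.mem_cases hm with e | e | e
    · exact absurd (conj_eq_one_iff.1 e) h.ne_one
    · exfalso
      apply hgc
      rw [Subgroup.mem_centralizer_iff]
      intro q hq
      rw [SetLike.mem_coe, hPe] at hq
      obtain ⟨k, rfl⟩ := Subgroup.mem_zpowers_iff.1 hq
      exact ((Commute.zpow_left (show Commute x g from (mul_inv_eq_iff_eq_mul.1 e).symm) k)).eq
    · exact e
  refine ⟨g, ?_, hgx⟩
  have hc : Commute x (g ^ 2) := by
    have : g ^ 2 * x * (g ^ 2)⁻¹ = x := by
      rw [show g ^ 2 * x * (g ^ 2)⁻¹ = g * (g * x * g⁻¹) * g⁻¹ by rw [pow_two]; group, hgx,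
        show g * x⁻¹ * g⁻¹ = (g * x * g⁻¹)⁻¹ by group, hgx, inv_inv]
    exact (mul_inv_eq_iff_eq_mul.1 this).symm
  have hg2 : Commute g (g ^ 2) := Commute.self_pow g 2
  have hne : x⁻¹ ≠ x := fun e => by
    have h2 : x ^ 2 = 1 := by
      have e' : x * x⁻¹ = x * x := congrArg (x * ·) e
      rw [mul_inv_cancel] at e'
      rw [pow_two]; exact e'.symm
    have := orderOf_dvd_of_pow_eq_one h2
    rw [h.ord] at this
    norm_num at this
  rcases h.mem_cases (h.cent _ hc) with e | e | e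
  · exact e
  · exfalso
    rw [e] at hg2
    exact hne (hgx.symm.trans (by rw [hg2.eq, mul_inv_cancel_right]))
  · exfalso
    rw [e] at hg2
    have h2 : Commute g x := by simpa using hg2.inv_right
    exact hne (hgx.symm.trans (by rw [h2.eq, mul_inv_cancel_right]))

/-- The normalizer of the cyclic subgroup generated by `x`. -/
theorem normalizer_cases (h : SC3 x) {t g : G} (ht : t * x * t⁻¹ = x⁻¹)
    (hg : g * x * g⁻¹ = x ∨ g * x * g⁻¹ = x⁻¹) :
    g ∈ Subgroup.zpowers x ∨ g * t ∈ Subgroup.zpowers x := by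
  rcases hg with e | e
  · exact Or.inl (h.cent g (mul_inv_eq_iff_eq_mul.1 e).symm)
  · refine Or.inr (h.cent _ (mul_inv_eq_iff_eq_mul.1 ?_).symm)
    rw [show g * t * x * (g * t)⁻¹ = g * (t * x * t⁻¹) * g⁻¹ by group, ht,
      show g * x⁻¹ * g⁻¹ = (g * x * g⁻¹)⁻¹ by group, e, inv_inv]

/-- The part of a maximal subgroup at a prime. -/
theorem exists_part (h : SC3 x) {M : Subgroup G} (hM : Max x M) (q : ℕ) [Fact q.Prime] :
    ∃ P : Subgroup G, P ≤ M ∧ IsPGroup q P ∧ (∀ k ∈ M, (∃ n : ℕ, k ^ q ^ n = 1) → k ∈ P) ∧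
      Subgroup.normalizer (M : Set G) ≤ Subgroup.normalizer (P : Set G) ∧
      Nat.card P = q ^ (Nat.card M).factorization q := by
  haveI := h.nilpotent hM.three' hM.inv
  let P₀ : Sylow q M := default
  haveI : (P₀ : Subgroup M).Normal := inferInstance
  haveI := Sylow.unique_of_normal P₀ ‹_›
  have hall : ∀ k : M, (∃ n : ℕ, (k : G) ^ q ^ n = 1) → k ∈ (P₀ : Subgroup M) := by
    rintro k ⟨n, hn⟩
    have hk : k ^ q ^ n = 1 := Subtype.ext (by simpa using hn)
    have hp : IsPGroup q (Subgroup.zpowers k) := fun w => by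
      obtain ⟨i, hi⟩ := Subgroup.mem_zpowers_iff.1 w.2
      refine ⟨n, Subtype.ext ?_⟩
      rw [SubmonoidClass.coe_pow, ← hi, ← zpow_natCast, ← zpow_mul, mul_comm, zpow_mul, zpow_natCast, hk, one_zpow]
      rfl
    obtain ⟨Q, hQ⟩ := hp.exists_le_sylow
    rw [Subsingleton.elim Q P₀] at hQ
    exact hQ (Subgroup.mem_zpowers k)
  refine ⟨(P₀ : Subgroup M).map M.subtype, Subgroup.map_subtype_le _, P₀.2.map _,
    fun k hk hn => ⟨⟨k, hk⟩, hall ⟨k, hk⟩ hn, rfl⟩, fun g hg => ?_, ?_⟩
  · rw [← inv'_iff_mem_normalizer] at hg ⊢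
    refine inv'_of_le fun k hk => ?_
    obtain ⟨k₀, hk₀, rfl⟩ := hk
    have hm : g * (k₀ : G) * g⁻¹ ∈ M := (hg _).1 k₀.2
    obtain ⟨n, hn⟩ := P₀.2 ⟨k₀, hk₀⟩
    have hn' : (k₀ : G) ^ q ^ n = 1 := by simpa using congrArg (fun w : (P₀ : Subgroup M) => ((w : M) : G)) hn
    refine ⟨⟨_, hm⟩, hall ⟨_, hm⟩ ⟨n, ?_⟩, rfl⟩
    rw [conj_pow, hn']; simp
  · rw [Nat.card_congr ((P₀ : Subgroup M).equivMapOfInjective M.subtype M.subtype_injective).symm.toEquiv,
      P₀.card_eq_multiplicity]

/-- The normalizer of a maximal subgroup. -/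
theorem Setup.shapeA (S : Setup G) (h : SC3 x) {M P : Subgroup G} (hM : Max x M) (hPM : P ≤ M)
    (hP1 : P ≠ ⊥) (hMP : M ≤ Subgroup.normalizer (P : Set G)) (hxP : Inv' x P) (hP : ¬ IsPGroup 2 M ∨ P = M) :
    (∀ (K : Subgroup G) (y : G), orderOf y = 3 → y ∈ Subgroup.normalizer (P : Set G) → Three' K → Inv' y K →
        K ≤ Subgroup.normalizer (P : Set G) → K ≤ M) ∧
      Subgroup.normalizer (P : Set G) ≤ Subgroup.normalizer (M : Set G) ∧
      (Nat.card (Subgroup.normalizer (P : Set G)) = 3 * Nat.card M ∨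
        Nat.card (Subgroup.normalizer (P : Set G)) = 6 * Nat.card M) := by
  set H := Subgroup.normalizer (P : Set G) with hHdef
  have hP3 : Three' P := three'_mono hPM hM.three'
  have hxH : x ∈ H := inv'_iff_mem_normalizer.1 hxP
  have hs := h.sub H hxH
  haveI : (P.subgroupOf H).Normal := Subgroup.normal_in_normalizer
  have hsub : ∀ {K : Subgroup G}, K ≤ H → Three' K → Three' (K.subgroupOf H) := fun hK h3 e =>
    h3 (by rwa [Nat.card_congr (Subgroup.subgroupOfEquivOfLe hK).toEquiv] at e)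
  have hP1' : P.subgroupOf H ≠ ⊥ := fun e => hP1 (by
    rw [Subgroup.subgroupOf_eq_bot] at e
    exact le_bot_iff.1 (fun k hk => e.le_bot ⟨hk, Subgroup.le_normalizer hk⟩))
  have hup : ∀ {N : Subgroup H}, N.Normal → Three' N → M.subgroupOf H ≤ N →
      N.map H.subtype = M := by
    intro N hN hN3 hle
    have h1 : M ≤ N.map H.subtype := fun k hk => ⟨⟨k, hMP hk⟩, hle hk, rfl⟩
    refine le_antisymm (hM.max _ (three'_map _ hN3) (inv'_iff_mem_normalizer.2 ?_) h1) h1
    haveI := hN
    exact Subgroup.le_normalizer_map H.subtype ⟨⟨x, hxH⟩, by rw [Subgroup.normalizer_eq_top N]; trivial, rfl⟩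
  have hxM : Inv' (⟨x, hxH⟩ : H) (M.subgroupOf H) := fun k => by
    simp only [Subgroup.mem_subgroupOf, Subgroup.coe_mul, Subgroup.coe_inv]
    exact hM.inv _
  rcases shape_of_tri hs (S.ih H x (S.ne_top h hP3 hP1) hxH h) (P.subgroupOf H) (hsub (Subgroup.le_normalizer) hP3) hP1'
    with ⟨N, hA⟩ | ⟨N, hB⟩
  · have hMN := hA.absorb (M.subgroupOf H) ⟨x, hxH⟩ hs.ord (hsub hMP hM.three') hxM
    have he := hup hA.normal hA.three' hMN
    have hNe : N = M.subgroupOf H := le_antisymm (fun k hk => by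
      rw [Subgroup.mem_subgroupOf, ← he]; exact ⟨k, hk, rfl⟩) hMN
    refine ⟨fun K y hy hyH hK hyK hKH k hk => ?_, fun g hg => ?_, ?_⟩
    · have := hA.absorb (K.subgroupOf H) ⟨y, hyH⟩ (by rw [Subgroup.orderOf_mk, hy]) (hsub hKH hK) (fun k => by
        simp only [Subgroup.mem_subgroupOf, Subgroup.coe_mul, Subgroup.coe_inv]; exact hyK _)
        (show (⟨k, hKH hk⟩ : H) ∈ K.subgroupOf H from hk)
      rw [hNe] at this
      exact this
    · rw [← he]
      haveI := hA.normal
      exact Subgroup.le_normalizer_map H.subtype ⟨⟨g, hg⟩, by rw [Subgroup.normalizer_eq_top N]; trivial, rfl⟩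
    · have h1 := N.card_mul_index
      rw [show Nat.card N = Nat.card M by rw [hNe, Nat.card_congr (Subgroup.subgroupOfEquivOfLe hMP).toEquiv]] at h1
      rcases hA.index with e | e <;> rw [e] at h1
      · left; omega
      · right; omega
  · exfalso
    have hM2' := hB.isPGroup hs (hsub hMP hM.three') hxM
    have hM2 : IsPGroup 2 M :=
      hM2'.of_equiv (Subgroup.subgroupOfEquivOfLe hMP)
    have hPM' : P = M := hP.resolve_left (fun e => e hM2)
    haveI : (M.subgroupOf H).Normal := hPM' ▸ ‹(P.subgroupOf H).Normal›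
    have hle := hB.normal_le hs (M.subgroupOf H) (hsub hMP hM.three')
    have he := hup hB.normal hB.three' hle
    obtain ⟨K, hK, hK3, hxK⟩ := hB.exists_bigger hs
    have h1 : M ≤ K.map H.subtype := he ▸ Subgroup.map_mono hK.le
    have h2 := hM.max _ (three'_map _ hK3) (inv'_map H.subtype hxK) h1
    have : K.map H.subtype = N.map H.subtype := by rw [he]; exact le_antisymm h2 h1
    exact hK.ne (Subgroup.map_injective H.subtype_injective this).symm

/-- Everything known about a maximal subgroup and its part at a prime. -/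
structure Part (x : G) (M P : Subgroup G) (q : ℕ) : Prop where
  /-- contained -/
  le : P ≤ M
  /-- q-group -/
  pgroup : IsPGroup q P
  /-- contains the q-elements -/
  mem : ∀ k ∈ M, (∃ n : ℕ, k ^ q ^ n = 1) → k ∈ P
  /-- normalized -/
  inv : Inv' x P
  /-- the same normalizer -/
  norm : Subgroup.normalizer (P : Set G) = Subgroup.normalizer (M : Set G)
  /-- order of the normalizer -/
  card_norm : Nat.card (Subgroup.normalizer (M : Set G)) = 3 * Nat.card M ∨
    Nat.card (Subgroup.normalizer (M : Set G)) = 6 * Nat.card M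
  /-- absorbs -/
  absorb : ∀ (K : Subgroup G) (y : G), orderOf y = 3 → y ∈ Subgroup.normalizer (M : Set G) → Three' K → Inv' y K →
    K ≤ Subgroup.normalizer (M : Set G) → K ≤ M
  /-- order -/
  card : Nat.card P = q ^ (Nat.card M).factorization q
  /-- nontrivial -/
  ne_bot : P ≠ ⊥

theorem Setup.part (S : Setup G) (h : SC3 x) {M : Subgroup G} (hM : Max x M) (q : ℕ) [Fact q.Prime]
    (hq : q ∣ Nat.card M) : ∃ P, Part x M P q := by
  obtain ⟨P, hle, hp, hall, hnorm, hcard⟩ := exists_part h hM q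
  have hqp : q.Prime := Fact.out
  have hP1 : P ≠ ⊥ := fun e => by
    rw [e, Subgroup.card_bot] at hcard
    have h0 := (hqp.factorization_pos_of_dvd Nat.card_pos.ne' hq)
    have := Nat.one_lt_pow h0.ne' hqp.one_lt
    omega
  have hxP : Inv' x P := inv'_iff_mem_normalizer.2 (hnorm (inv'_iff_mem_normalizer.1 hM.inv))
  have hd : ¬ IsPGroup 2 M ∨ P = M := by
    by_cases h2 : IsPGroup 2 M
    · refine Or.inr (le_antisymm hle fun k hk => hall k hk ?_)
      obtain ⟨n, hn⟩ := h2 ⟨k, hk⟩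
      obtain ⟨a, ha⟩ := IsPGroup.iff_card.1 (haveI := Fact.mk Nat.prime_two; h2)
      have hq2 : q = 2 := (Nat.prime_dvd_prime_iff_eq hqp Nat.prime_two).1 (hqp.dvd_of_dvd_pow (ha ▸ hq))
      exact ⟨n, by rw [hq2]; exact congrArg Subtype.val hn⟩
    · exact Or.inl h2
  obtain ⟨ha, hb, hc⟩ := S.shapeA h hM hle hP1 (Subgroup.le_normalizer.trans hnorm) hxP hd
  have heq : Subgroup.normalizer (P : Set G) = Subgroup.normalizer (M : Set G) := le_antisymm hb hnorm
  rw [heq] at ha hc
  exact ⟨P, hle, hp, hall, hxP, heq, hc, ha, hcard, hP1⟩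

theorem Part.conj {M P : Subgroup G} {q : ℕ} (hP : Part x M P q) (g : G) :
    Part (g * x * g⁻¹) (M.map (MulAut.conj g).toMonoidHom) (P.map (MulAut.conj g).toMonoidHom) q := by
  have hn : ∀ K : Subgroup G, Subgroup.normalizer ((K.map (MulAut.conj g).toMonoidHom : Subgroup G) : Set G) =
      (Subgroup.normalizer (K : Set G)).map (MulAut.conj g).toMonoidHom := fun K =>
    (Subgroup.map_equiv_normalizer_eq K (MulAut.conj g)).symm
  have hc : ∀ K : Subgroup G, Nat.card (K.map (MulAut.conj g).toMonoidHom) = Nat.card K := map_conj_card g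
  refine ⟨Subgroup.map_mono hP.le, hP.pgroup.map _, fun k hk hn' => ?_, inv'_conj hP.inv, by rw [hn, hn, hP.norm],
    by rw [hn, hc, hc]; exact hP.card_norm, fun K y hy hyN hK hyK hKN => ?_, by rw [hc, hc]; exact hP.card,
    fun e => hP.ne_bot ((Subgroup.map_eq_bot_iff_of_injective _ (MulEquiv.injective _)).1 e)⟩
  · obtain ⟨n, hn'⟩ := hn'
    exact mem_map_conj.2 (hP.mem _ (mem_map_conj.1 hk) ⟨n, by rw [show g⁻¹ * k * g = g⁻¹ * k * (g⁻¹)⁻¹ by simp, conj_pow, hn']; simp⟩)
  · intro k hk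
    refine mem_map_conj.2 (hP.absorb (K.map (MulAut.conj g⁻¹).toMonoidHom) (g⁻¹ * y * g) ?_ ?_ (three'_map _ hK) ?_ ?_
      (mem_map_conj.2 (by simpa [mul_assoc] using hk)))
    · rw [show g⁻¹ * y * g = MulAut.conj g⁻¹ y by simp, MulEquiv.orderOf_eq, hy]
    · rw [hn] at hyN; exact mem_map_conj.1 hyN
    · simpa using inv'_conj (g := g⁻¹) hyK
    · intro w hw
      have := hKN (mem_map_conj.1 hw)
      rw [hn] at this
      simpa [mul_assoc] using mem_map_conj.1 this

end CfsgLib.SelfCentThree
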