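import Mathlib
import Cfsg.Agent.Lib.SelfCentThree.Max

set_option autoImplicit false

/-!
The parts of the maximal subgroups and their fusion.
-/

namespace CfsgLib.SelfCentThree

open scoped commutatorElement

universe u

variable {G : Type u} [Group G] [Finite G] {x : G}

/-- Two maximal subgroups in the same orbit of the inverting element. -/
def Rel (t : G) (M L : Subgroup G) : Prop := L = M ∨ L = M.map (MulAut.conj t).toMonoidHom

theorem rel_of_conj (h : SC3 x) {t : G} (ht : t * x * t⁻¹ = x⁻¹) {M L : Subgroup G} (hM : Inv' x M) (hL : Inv' x L)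
    {g : G} (hg : M.map (MulAut.conj g).toMonoidHom = L) : Rel t M L := by
  set H := Subgroup.normalizer (L : Set G)
  have hxH : x ∈ H := inv'_iff_mem_normalizer.1 hL
  have hyH : g * x * g⁻¹ ∈ H := inv'_iff_mem_normalizer.1 (hg ▸ inv'_conj hM)
  obtain ⟨k, hk⟩ := (h.sub H hxH).conj_zpowers (y := ⟨_, hyH⟩)
    (by rw [Subgroup.orderOf_mk, show g * x * g⁻¹ = MulAut.conj g x from rfl, MulEquiv.orderOf_eq, h.ord])
  have hkx : (k.1⁻¹ * g) * x * (k.1⁻¹ * g)⁻¹ = x ∨ (k.1⁻¹ * g) * x * (k.1⁻¹ * g)⁻¹ = x⁻¹ := by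
    have e : (k.1⁻¹ * g) * x * (k.1⁻¹ * g)⁻¹ = k.1⁻¹ * (g * x * g⁻¹) * k.1 := by group
    rcases hk with e' | e'
    · left
      have e'' := congrArg Subtype.val e'
      simp only [Subgroup.coe_mul, Subgroup.coe_inv] at e''
      rw [e, e'']; group
    · right
      have e'' := congrArg Subtype.val e'
      simp only [Subgroup.coe_mul, Subgroup.coe_inv] at e''
      rw [e, e'']; group
  have hkL : L.map (MulAut.conj k.1⁻¹).toMonoidHom = L :=
    inv'_iff_map.1 (inv'_iff_mem_normalizer.2 (inv_mem k.2))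
  have hLM : L = M.map (MulAut.conj (k.1⁻¹ * g)).toMonoidHom := by rw [← map_conj_mul, hg, hkL]
  rcases normalizer_cases h ht hkx with e | e
  · left
    rw [hLM]
    exact inv'_iff_map.1 (inv'_iff_mem_normalizer.2
      (Subgroup.zpowers_le.2 (inv'_iff_mem_normalizer.1 hM) e))
  · right
    obtain ⟨i, hi⟩ := Subgroup.mem_zpowers_iff.1 e
    have hMt : Inv' x (M.map (MulAut.conj t).toMonoidHom) := by
      have := inv'_inv (inv'_conj (g := t) hM)
      rwa [ht, inv_inv] at this
    have ht1 : Commute x (t * t) := by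
      have : t * t * x * (t * t)⁻¹ = x := by
        rw [show t * t * x * (t * t)⁻¹ = t * (t * x * t⁻¹) * t⁻¹ by group, ht,
          show t * x⁻¹ * t⁻¹ = (t * x * t⁻¹)⁻¹ by group, ht, inv_inv]
      exact (mul_inv_eq_iff_eq_mul.1 this).symm
    obtain ⟨j, hj⟩ := Subgroup.mem_zpowers_iff.1 (h.cent _ ht1)
    have e1 : k.1⁻¹ * g = x ^ (i - j) * t := by
      rw [zpow_sub, hi, hj]; group
    rw [hLM, e1, ← map_conj_mul]
    exact inv'_iff_map.1 (inv'_iff_mem_normalizer.2
      (zpow_mem (inv'_iff_mem_normalizer.1 hMt) _))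

theorem part_unique {y z : G} (hy : SC3 y) (hz : SC3 z) {M L P : Subgroup G} {q : ℕ} (hMm : Max y M) (hLm : Max z L)
    (hP : Part y M P q) (hQ : Part z L P q) : M = L := by
  have hn : Subgroup.normalizer (M : Set G) = Subgroup.normalizer (L : Set G) := hP.norm.symm.trans hQ.norm
  refine le_antisymm (hQ.absorb M y hy.ord ?_ hMm.three' hMm.inv ?_) (hP.absorb L z hz.ord ?_ hLm.three' hLm.inv ?_)
  · rw [← hn]; exact inv'_iff_mem_normalizer.1 hMm.inv
  · rw [← hn]; exact Subgroup.le_normalizer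
  · rw [hn]; exact inv'_iff_mem_normalizer.1 hLm.inv
  · rw [hn]; exact Subgroup.le_normalizer

theorem rel_of_part (h : SC3 x) {t : G} (ht : t * x * t⁻¹ = x⁻¹) {M L P Q : Subgroup G} {q : ℕ} (hMm : Max x M)
    (hLm : Max x L) (hP : Part x M P q) (hQ : Part x L Q q) {g : G}
    (hg : P.map (MulAut.conj g).toMonoidHom = Q) : Rel t M L :=
  rel_of_conj h ht hMm.inv hLm.inv (part_unique (h.conj g) h (hMm.conj g) hLm (hP.conj g) (hg ▸ hQ))

theorem normalizer_grows {q : ℕ} [Fact q.Prime] {P Q : Subgroup G} (hQ : IsPGroup q Q) (hlt : P < Q) :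
    P < Q ⊓ Subgroup.normalizer (P : Set G) := by
  haveI := hQ.isNilpotent
  have hne : P.subgroupOf Q < ⊤ := lt_top_iff_ne_top.2 fun e =>
    hlt.not_ge (Subgroup.subgroupOf_eq_top.1 e)
  have h1 := Group.normalizerCondition_of_isNilpotent (P.subgroupOf Q) hne
  refine lt_of_le_of_ne (le_inf hlt.le Subgroup.le_normalizer) fun e => h1.ne ?_
  refine le_antisymm Subgroup.le_normalizer fun k hk => ?_
  rw [Subgroup.mem_subgroupOf, e]
  refine ⟨k.2, Subgroup.mem_normalizer_iff.2 fun w => ?_⟩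
  constructor
  · intro hw
    exact (Subgroup.mem_normalizer_iff.1 hk ⟨w, hlt.le hw⟩).1 hw
  · intro hw
    have hwQ : w ∈ Q := by
      have := mul_mem (mul_mem (inv_mem k.2) (hlt.le hw)) k.2
      simpa [mul_assoc] using this
    exact (Subgroup.mem_normalizer_iff.1 hk ⟨w, hwQ⟩).2 hw

theorem Part.card_dvd_six {M P : Subgroup G} {q : ℕ} (hP : Part x M P q) :
    Nat.card (Subgroup.normalizer (M : Set G)) ∣ 6 * Nat.card M := by
  rcases hP.card_norm with e | e
  · rw [e]; exact Nat.mul_dvd_mul_right (by norm_num) _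
  · rw [e]

theorem Part.sylow_odd {M P Q : Subgroup G} {q : ℕ} [Fact q.Prime] (hM : Max x M) (hP : Part x M P q) (hq2 : q ≠ 2)
    (hQ : IsPGroup q Q) (hle : P ≤ Q) : Q = P := by
  rcases hle.eq_or_lt with e | hlt
  · exact e.symm
  exfalso
  have hN : IsPGroup q (Q ⊓ Subgroup.normalizer (P : Set G) : Subgroup G) := hQ.to_le inf_le_left
  obtain ⟨b, hb⟩ := IsPGroup.iff_card.1 hN
  have hd : q ^ b ∣ 6 * Nat.card M := by
    rw [← hb]
    exact (Subgroup.card_dvd_of_le (inf_le_right.trans hP.norm.le)).trans hP.card_dvd_six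
  have hqp : q.Prime := Fact.out
  have hq3 : q ≠ 3 := fun e => hM.three' (by
    subst e
    refine (dvd_trans ?_ (Subgroup.card_dvd_of_le hP.le))
    obtain ⟨v, hv⟩ : ∃ v, Nat.card P = 3 ^ v := ⟨_, hP.card⟩
    have : v ≠ 0 := fun h0 => hP.ne_bot (Subgroup.card_eq_one.1 (by rw [hv, h0, pow_zero]))
    rw [hv]; exact dvd_pow_self 3 this)
  have hco : Nat.Coprime (q ^ b) 6 := by
    refine Nat.Coprime.pow_left b ((Nat.Prime.coprime_iff_not_dvd hqp).2 fun h6 => ?_)
    rcases (Nat.Prime.dvd_mul hqp).1 (show q ∣ 2 * 3 from h6) with e | e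
    · exact hq2 ((Nat.prime_dvd_prime_iff_eq hqp Nat.prime_two).1 e)
    · exact hq3 ((Nat.prime_dvd_prime_iff_eq hqp Nat.prime_three).1 e)
  have hd' : q ^ b ∣ q ^ (Nat.card M).factorization q :=
    Nat.pow_dvd_pow q ((hqp.pow_dvd_iff_le_factorization Nat.card_pos.ne').1 (hco.dvd_of_dvd_mul_left hd))
  have h1 := (normalizer_grows hQ hlt)
  have h2 : Nat.card (Q ⊓ Subgroup.normalizer (P : Set G) : Subgroup G) ≤ Nat.card P := by
    rw [hb, hP.card]; exact Nat.le_of_dvd (pow_pos hqp.pos _) hd'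
  exact h1.ne (Subgroup.eq_of_le_of_card_ge h1.le h2)

theorem Part.card_normalizer_two {M P Q : Subgroup G} (hP : Part x M P 2)
    (hQ : IsPGroup 2 Q) (hle : Q ≤ Subgroup.normalizer (P : Set G)) : Nat.card Q ≤ 2 * Nat.card P := by
  haveI := Fact.mk Nat.prime_two
  obtain ⟨b, hb⟩ := IsPGroup.iff_card.1 hQ
  have hd : 2 ^ b ∣ 6 * Nat.card M := hb ▸ (Subgroup.card_dvd_of_le (hle.trans hP.norm.le)).trans hP.card_dvd_six
  have h2 : 2 ^ b ∣ 2 * Nat.card M := by
    refine Nat.Coprime.dvd_of_dvd_mul_left (k := 2 ^ b) (m := 3) (Nat.Coprime.pow_left b (by norm_num)) ?_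
    rwa [show 3 * (2 * Nat.card M) = 6 * Nat.card M by ring]
  have h3 := (Nat.prime_two.pow_dvd_iff_le_factorization (by have := Nat.card_pos (α := M); omega)).1 h2
  rw [Nat.factorization_mul (by norm_num) Nat.card_pos.ne', Finsupp.add_apply, Nat.prime_two.factorization_self] at h3
  rw [hb, hP.card, ← pow_succ']
  exact Nat.pow_le_pow_right (by norm_num) (by omega)

theorem Part.card_four_pow {M P : Subgroup G} (h : SC3 x) (hP : Part x M P 2) (hM : Max x M) :
    Nat.card P = 4 ∨ 16 ≤ Nat.card P := by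
  have h1 := h.card_mod_three (three'_mono hP.le hM.three') hP.inv
  obtain ⟨n, hn⟩ : ∃ n, Nat.card P = 2 ^ n := ⟨_, hP.card⟩
  rw [hn] at h1 ⊢
  rcases (show n = 0 ∨ n = 1 ∨ n = 2 ∨ n = 3 ∨ 4 ≤ n by omega) with e | e | e | e | e
  · exact absurd (Subgroup.card_eq_one.1 (by rw [hn, e, pow_zero])) hP.ne_bot
  · subst e; norm_num at h1
  · subst e; exact Or.inl rfl
  · subst e; norm_num at h1
  · exact Or.inr (le_trans (by norm_num) (Nat.pow_le_pow_right (show 1 ≤ 2 by norm_num) e))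

/-- An element of two-power order of the normalizer, outside the maximal subgroup, gives an element of order three. -/
theorem Part.order_three {M P : Subgroup G} {q : ℕ} (h : SC3 x) (hM : Max x M) (hP : Part x M P q) {s : G}
    (hs : s ∈ Subgroup.normalizer (M : Set G)) (hsM : s ∉ M) (hs2 : ∃ n : ℕ, s ^ 2 ^ n = 1) :
    ∀ d : G, d = x * s * x⁻¹ * s⁻¹ ∨ d = s * (x * s * x⁻¹)⁻¹ → ∃ m : ℕ, orderOf (d ^ m) = 3 := by
  set H := Subgroup.normalizer (M : Set G) with hH
  have hxH : x ∈ H := inv'_iff_mem_normalizer.1 hM.inv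
  haveI : (M.subgroupOf H).Normal := Subgroup.normal_in_normalizer
  have hM3 : Three' (M.subgroupOf H) := fun e =>
    hM.three' (by rwa [Nat.card_congr (Subgroup.subgroupOfEquivOfLe Subgroup.le_normalizer).toEquiv] at e)
  set f := QuotientGroup.mk' (M.subgroupOf H)
  set X : H := ⟨x, hxH⟩
  set S : H := ⟨s, hs⟩
  have hX : SC3 (f X) := (h.sub H hxH).quot _ hM3
  have hnc : ¬ Commute (f X) (f S) := by
    intro hc
    let K : Subgroup G := ((Subgroup.zpowers (f S)).comap f).map H.subtype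
    have hK : Three' K := three'_of_no_elt fun k hk hk3 => by
      obtain ⟨w, hw, rfl⟩ := hk
      obtain ⟨i, hi⟩ := Subgroup.mem_zpowers_iff.1 (show f w ∈ Subgroup.zpowers (f S) from hw)
      obtain ⟨n, hn⟩ := hs2
      have hS1 : S ^ 2 ^ n = 1 := Subtype.ext (by simpa [S] using hn)
      have h1 : f (w ^ 2 ^ n) = 1 := by
        rw [map_pow, ← hi, ← zpow_natCast, ← zpow_mul, mul_comm, zpow_mul, zpow_natCast, ← map_pow, hS1, map_one, one_zpow]
      have h2 : (w : G) ^ 2 ^ n ∈ M := by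
        have := (QuotientGroup.eq_one_iff _).1 h1
        simpa [Subgroup.mem_subgroupOf] using this
      have h3 : orderOf (w : G) ∣ 2 ^ n * Nat.card M := orderOf_dvd_of_pow_eq_one (by
        rw [pow_mul]
        exact congrArg Subtype.val (pow_card_eq_one' (x := (⟨_, h2⟩ : M))))
      rw [show (H.subtype w) = (w : G) from rfl] at hk3
      rw [hk3] at h3
      rcases (Nat.Prime.dvd_mul Nat.prime_three).1 h3 with e | e
      · have := Nat.prime_three.dvd_of_dvd_pow e; norm_num at this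
      · exact hM.three' e
    have hxK : Inv' x K := inv'_of_le fun k hk => by
      obtain ⟨w, hw, rfl⟩ := hk
      refine ⟨X * w * X⁻¹, ?_, rfl⟩
      obtain ⟨i, hi⟩ := Subgroup.mem_zpowers_iff.1 (show f w ∈ Subgroup.zpowers (f S) from hw)
      show f (X * w * X⁻¹) ∈ Subgroup.zpowers (f S)
      rw [map_mul, map_mul, map_inv, ← hi, (hc.zpow_right i).eq, mul_inv_cancel_right]
      exact Subgroup.zpow_mem_zpowers _ _
    exact hsM (hP.absorb K x h.ord hxH hK hxK (Subgroup.map_subtype_le _) ⟨S, Subgroup.mem_zpowers _, rfl⟩)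
  have hcard : Nat.card (H ⧸ M.subgroupOf H) = 3 ∨ Nat.card (H ⧸ M.subgroupOf H) = 6 := by
    have h1 := Subgroup.card_eq_card_quotient_mul_card_subgroup (M.subgroupOf H)
    rw [Nat.card_congr (Subgroup.subgroupOfEquivOfLe (Subgroup.le_normalizer (H := M))).toEquiv] at h1
    have h0 : 0 < Nat.card M := Nat.card_pos
    rcases hP.card_norm with e | e <;> rw [e] at h1
    · exact Or.inl (Nat.eq_of_mul_eq_mul_right h0 h1.symm)
    · exact Or.inr (Nat.eq_of_mul_eq_mul_right h0 h1.symm)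
  have hidx : (Subgroup.zpowers (f X)).index = 1 ∨ (Subgroup.zpowers (f X)).index = 2 := by
    have := (Subgroup.zpowers (f X)).card_mul_index
    rw [hX.card_zpowers] at this
    omega
  haveI hn : (Subgroup.zpowers (f X)).Normal := by
    rcases hidx with e | e
    · rw [Subgroup.index_eq_one.1 e]; infer_instance
    · exact Subgroup.normal_of_index_eq_two e
  have hd : ∀ d : H, (f d ∈ Subgroup.zpowers (f X)) → f d ≠ 1 → ∃ m : ℕ, orderOf ((d : G) ^ m) = 3 := by
    intro d hd hd1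
    refine ⟨Nat.card M, ?_⟩
    have hd3 : f d ^ 3 = 1 := by
      obtain ⟨i, hi⟩ := Subgroup.mem_zpowers_iff.1 hd
      rw [← hi, ← zpow_natCast, ← zpow_mul, mul_comm, zpow_mul, zpow_natCast, hX.pow_three, one_zpow]
    haveI := Fact.mk Nat.prime_three
    refine orderOf_eq_prime ?_ fun e => ?_
    · have h2 : (d : G) ^ 3 ∈ M := by
        have := (QuotientGroup.eq_one_iff _).1 (show f (d ^ 3) = 1 by rw [map_pow, hd3])
        simpa [Subgroup.mem_subgroupOf] using this
      rw [← pow_mul, mul_comm, pow_mul]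
      exact congrArg Subtype.val (pow_card_eq_one' (x := (⟨_, h2⟩ : M)))
    · have h3 : f d ^ Nat.card M = 1 := by
        rw [← map_pow]
        have : d ^ Nat.card M = 1 := Subtype.ext (by simpa using e)
        rw [this, map_one]
      have h4 : orderOf (f d) = 3 := orderOf_eq_prime hd3 hd1
      exact hM.three' (h4 ▸ orderOf_dvd_of_pow_eq_one h3)
  rintro d (rfl | rfl)
  · refine hd (X * S * X⁻¹ * S⁻¹) ?_ fun e => hnc ?_
    · simp only [map_mul, map_inv]
      rw [show f X * f S * (f X)⁻¹ * (f S)⁻¹ = f X * (f S * (f X)⁻¹ * (f S)⁻¹) by group]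
      exact mul_mem (Subgroup.mem_zpowers _) (hn.conj_mem _ (inv_mem (Subgroup.mem_zpowers _)) _)
    · rwa [map_mul, map_mul, map_mul, map_inv, map_inv, ← commutatorElement_def,
        commutatorElement_eq_one_iff_commute] at e
  · refine hd (S * (X * S * X⁻¹)⁻¹) ?_ fun e => hnc ?_
    · simp only [map_mul, map_inv]
      rw [show f S * (f X * f S * (f X)⁻¹)⁻¹ = (f S * f X * (f S)⁻¹) * (f X)⁻¹ by group]
      exact mul_mem (hn.conj_mem _ (Subgroup.mem_zpowers _) _) (inv_mem (Subgroup.mem_zpowers _))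
    · simp only [map_mul, map_inv, mul_inv_eq_one] at e
      exact (eq_mul_inv_iff_mul_eq.1 e).symm

/-- Subgroups of the part centralized by an outer element are small. -/
theorem Part.invert_small {M P : Subgroup G} {q : ℕ} (h : SC3 x) (hM : Max x M) (hP : Part x M P q) {s : G}
    (hs : s ∈ Subgroup.normalizer (M : Set G)) (hsM : s ∉ M) (hs2 : ∃ n : ℕ, s ^ 2 ^ n = 1) {C : Subgroup G}
    (hC : C ≤ P) (hcs : ∀ c ∈ C, Commute c s) : Nat.card C * Nat.card C ≤ Nat.card P := by
  set C' := C.map (MulAut.conj x).toMonoidHom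
  obtain ⟨m, hm⟩ := hP.order_three h hM hs hsM hs2 _ (Or.inl rfl)
  have hint : ∀ c ∈ C, c ∈ C' → c = 1 := by
    intro c hc hc'
    have h1 : Commute (x⁻¹ * c * x) s := hcs _ (mem_map_conj.1 hc')
    have h2 : Commute c (x * s * x⁻¹) := by
      have := h1.map (MulAut.conj x).toMonoidHom
      simpa [mul_assoc] using this
    have h3 : Commute ((x * s * x⁻¹ * s⁻¹) ^ m) c := ((h2.mul_right (hcs c hc).inv_right).pow_right m).symm
    have hs3 := h.of_order hm
    rcases hs3.mem_cases (hs3.cent c h3) with e | e | e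
    · exact e
    all_goals exfalso
    · apply three'_mono (hC.trans hP.le) hM.three'
      rw [← hm, ← e, ← Subgroup.orderOf_mk c hc]
      exact orderOf_dvd_natCard _
    · apply three'_mono (hC.trans hP.le) hM.three'
      rw [← hm, ← orderOf_inv, ← e, ← Subgroup.orderOf_mk c hc]
      exact orderOf_dvd_natCard _
  have hC' : C' ≤ P := fun k hk => by
    have := hC (mem_map_conj.1 hk)
    have h2 := (hP.inv _).1 this
    simpa [mul_assoc] using h2
  have hinj : Function.Injective (fun p : C × C' => (⟨p.1.1 * p.2.1, mul_mem (hC p.1.2) (hC' p.2.2)⟩ : P)) := by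
    rintro ⟨a, b⟩ ⟨a', b'⟩ e
    have e' : a.1 * b.1 = a'.1 * b'.1 := congrArg Subtype.val e
    have e1 : a'.1⁻¹ * a.1 = b'.1 * b.1⁻¹ := by
      rw [inv_mul_eq_iff_eq_mul, ← mul_assoc, ← e', mul_inv_cancel_right]
    have h1 := hint _ (mul_mem (inv_mem a'.2) a.2) (e1 ▸ mul_mem b'.2 (inv_mem b.2))
    rw [Prod.mk.injEq]
    refine ⟨Subtype.ext (inv_mul_eq_one.1 h1).symm, Subtype.ext ?_⟩
    rw [e1, mul_inv_eq_one] at h1
    exact h1.symm
  have := Nat.card_le_card_of_injective _ hinj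
  rwa [Nat.card_prod, show Nat.card C' = Nat.card C from map_conj_card x C] at this

/-- An outer involution with few fixed points forces a small part. -/
theorem Part.involution_bound {M P : Subgroup G} {q : ℕ} (h : SC3 x) (hM : Max x M) (hP : Part x M P q) {s : G}
    (hs : s ∈ Subgroup.normalizer (M : Set G)) (hsM : s ∉ M) (hs2 : s ^ 2 = 1) :
    Nat.card P ≤ Nat.card (P ⊓ Subgroup.centralizer ({s} : Set G) : Subgroup G) ^ 2 := by
  classical
  set C := P ⊓ Subgroup.centralizer ({s} : Set G)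
  have hsN : s ∈ Subgroup.normalizer (P : Set G) := hP.norm.ge hs
  have hxN : x ∈ Subgroup.normalizer (P : Set G) := inv'_iff_mem_normalizer.1 hP.inv
  have hsinv : s⁻¹ = s := inv_eq_of_mul_eq_one_right (by rw [← pow_two, hs2])
  let A := {u : P // ((u : G) * s) ^ 2 = 1}
  obtain ⟨m, hm⟩ := hP.order_three h hM hs hsM ⟨1, by rw [pow_one, hs2]⟩ _ (Or.inr rfl)
  set e0 := s * (x * s * x⁻¹)⁻¹ with he0
  have hsq : A → A → G := fun a b => (a.1 : G) * s * (x * ((b.1 : G) * s) * x⁻¹)
  have hmemP : ∀ a b : A, (a.1 : G) * s * (x * ((b.1 : G) * s) * x⁻¹) * e0⁻¹ ∈ P := by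
    intro a b
    have h1 : x * (b.1 : G) * x⁻¹ ∈ P := (hP.inv _).1 b.1.2
    have h2 := (Subgroup.mem_normalizer_iff.1 hsN _).1 h1
    have : (a.1 : G) * s * (x * ((b.1 : G) * s) * x⁻¹) * e0⁻¹ = (a.1 : G) * (s * (x * (b.1 : G) * x⁻¹) * s⁻¹) := by
      have hxs : (x * s * x⁻¹) * (x * s * x⁻¹) = 1 := by
        rw [show x * s * x⁻¹ * (x * s * x⁻¹) = x * (s * s) * x⁻¹ by group, ← pow_two, hs2]; group
      rw [he0, mul_inv_rev, inv_inv]
      calc (a.1 : G) * s * (x * ((b.1 : G) * s) * x⁻¹) * (x * s * x⁻¹ * s⁻¹)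
          = (a.1 : G) * s * (x * (b.1 : G) * x⁻¹) * ((x * s * x⁻¹) * (x * s * x⁻¹)) * s⁻¹ := by group
        _ = _ := by rw [hxs]; group
    rw [this]
    exact mul_mem a.1.2 h2
  have hinv : ∀ w : G, w ^ 2 = 1 → w⁻¹ = w := fun w hw => inv_eq_of_mul_eq_one_right (by rw [← pow_two, hw])
  have hAA : Nat.card A * Nat.card A ≤ Nat.card P := by
    rw [← Nat.card_prod]
    refine Nat.card_le_card_of_injective (fun p => (⟨_, hmemP p.1 p.2⟩ : P)) ?_
    rintro ⟨a, b⟩ ⟨a', b'⟩ e
    have e' := mul_right_cancel (congrArg Subtype.val e)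
    set α := (a.1 : G) * s with hα
    set α' := (a'.1 : G) * s with hα'
    set β := x * ((b.1 : G) * s) * x⁻¹ with hβ
    set β' := x * ((b'.1 : G) * s) * x⁻¹ with hβ'
    have hαi := hinv α a.2
    have hα'i := hinv α' a'.2
    have hβi : β⁻¹ = β := hinv β (by rw [hβ, conj_pow, b.2]; group)
    have hβ'i : β'⁻¹ = β' := hinv β' (by rw [hβ', conj_pow, b'.2]; group)
    set W := α * β with hW
    have e'' : W = α' * β' := e'
    have hWP : W * e0⁻¹ ∈ P := hmemP a b
    have aa : α * α = 1 := by rw [← pow_two]; exact a.2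
    have aa' : α' * α' = 1 := by rw [← pow_two]; exact a'.2
    clear_value α α' β β' W
    have hc : Commute (α' * α) W := by
      have i1 : α * W * α = W⁻¹ := by
        rw [hW, mul_inv_rev, hαi, hβi, ← mul_assoc, aa, one_mul]
      have i2 : α' * W * α' = W⁻¹ := by
        rw [e'', mul_inv_rev, hα'i, hβ'i, ← mul_assoc, aa', one_mul]
      show α' * α * W = W * (α' * α)
      have j1 : α * W = W⁻¹ * α := by rw [← i1, mul_assoc (α * W), aa, mul_one]
      have j2 : α' * W⁻¹ = W * α' := by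
        rw [← i2, ← mul_assoc, ← mul_assoc, aa', one_mul]
      rw [mul_assoc, j1, ← mul_assoc, j2, mul_assoc]
    have hk : α' * α ∈ P := by
      rw [show α' * α = (a'.1 : G) * (s * (a.1 : G) * s⁻¹) * (s * s) by rw [hα, hα']; group, ← pow_two, hs2, mul_one]
      exact mul_mem a'.1.2 ((Subgroup.mem_normalizer_iff.1 hsN _).1 a.1.2)
    have hWd : ∃ j : ℕ, orderOf (W ^ j) = 3 := by
      refine ⟨Nat.card M, ?_⟩
      haveI := Fact.mk Nat.prime_three
      set H := Subgroup.normalizer (M : Set G)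
      haveI : (M.subgroupOf H).Normal := Subgroup.normal_in_normalizer
      have he0H : e0 ∈ H := mul_mem hs (inv_mem (mul_mem (mul_mem (inv'_iff_mem_normalizer.1 hM.inv) hs)
        (inv_mem (inv'_iff_mem_normalizer.1 hM.inv))))
      have hWH : W ∈ H := by
        have := mul_mem (Subgroup.le_normalizer (hP.le hWP)) he0H
        simpa using this
      have hq : QuotientGroup.mk' (M.subgroupOf H) ⟨W, hWH⟩ = QuotientGroup.mk' (M.subgroupOf H) ⟨e0, he0H⟩ := by
        rw [← div_eq_one, ← map_div, QuotientGroup.mk'_apply, QuotientGroup.eq_one_iff]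
        simpa [Subgroup.mem_subgroupOf, div_eq_mul_inv] using hP.le hWP
      have hM3 : Three' (M.subgroupOf H) := fun e => hM.three'
        (by rwa [Nat.card_congr (Subgroup.subgroupOfEquivOfLe Subgroup.le_normalizer).toEquiv] at e)
      have hem : orderOf (QuotientGroup.mk' (M.subgroupOf H) ⟨e0, he0H⟩) = 3 := by
        have hQ3 := ((h.sub H (inv'_iff_mem_normalizer.1 hM.inv)).quot _ hM3).ord
        have hcard : Nat.card (H ⧸ M.subgroupOf H) ∣ 6 := by
          have h1 := Subgroup.card_eq_card_quotient_mul_card_subgroup (M.subgroupOf H)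
          rw [Nat.card_congr (Subgroup.subgroupOfEquivOfLe (Subgroup.le_normalizer (H := M))).toEquiv] at h1
          have h2 := hP.card_dvd_six
          rw [h1] at h2
          exact Nat.dvd_of_mul_dvd_mul_right Nat.card_pos h2
        set E := QuotientGroup.mk' (M.subgroupOf H) ⟨e0, he0H⟩
        have hdiv : orderOf E ∣ 6 := (orderOf_dvd_natCard E).trans hcard
        have hE3 : orderOf (E ^ m) = 3 := by
          refine orderOf_eq_prime ?_ fun hc1 => ?_
          · rw [← map_pow, ← map_pow, show ((⟨e0, he0H⟩ : H) ^ m) ^ 3 = 1 from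
              Subtype.ext (by simpa using orderOf_dvd_iff_pow_eq_one.1 hm.dvd), map_one]
          · rw [← map_pow] at hc1
            have := (QuotientGroup.eq_one_iff _).1 hc1
            rw [Subgroup.mem_subgroupOf] at this
            exact hM.three' (hm ▸ (by
              have h1 := orderOf_dvd_natCard (⟨_, this⟩ : M)
              rwa [Subgroup.orderOf_mk] at h1))
        have h3 : 3 ∣ orderOf E := hE3 ▸ orderOf_pow_dvd m
        rcases (show orderOf E = 3 ∨ orderOf E = 6 by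
          have := Nat.le_of_dvd (by norm_num) hdiv
          obtain ⟨j, hj⟩ := h3
          have : 0 < orderOf E := orderOf_pos E
          omega) with e | e
        · exact e
        · exfalso
          have hc6 : Nat.card (H ⧸ M.subgroupOf H) = 6 :=
            Nat.dvd_antisymm hcard (e ▸ orderOf_dvd_natCard E)
          set X := QuotientGroup.mk' (M.subgroupOf H) ⟨x, inv'_iff_mem_normalizer.1 hM.inv⟩
          have hX := (h.sub H (inv'_iff_mem_normalizer.1 hM.inv)).quot _ hM3
          have hgen : Subgroup.zpowers E = ⊤ := Subgroup.eq_top_of_card_eq _ (by rw [Nat.card_zpowers, e, hc6])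
          obtain ⟨i, hi⟩ := Subgroup.mem_zpowers_iff.1 (hgen ▸ Subgroup.mem_top X : X ∈ Subgroup.zpowers E)
          have hcom : Commute X E := by rw [← hi]; exact (Commute.refl E).zpow_left i
          have := Nat.le_of_dvd (by norm_num) (hX.card_zpowers ▸ e ▸ (Nat.card_zpowers E ▸
            Subgroup.card_dvd_of_le (Subgroup.zpowers_le.2 (hX.cent E hcom))))
          omega
      set E := QuotientGroup.mk' (M.subgroupOf H) ⟨W, hWH⟩
      rw [← hq] at hem
      refine orderOf_eq_prime ?_ fun hc1 => ?_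
      · have h1 : (QuotientGroup.mk' (M.subgroupOf H) ((⟨W, hWH⟩ : H) ^ 3)) = 1 := by
          rw [map_pow]; exact orderOf_dvd_iff_pow_eq_one.1 hem.dvd
        have h2 := (QuotientGroup.eq_one_iff _).1 h1
        rw [Subgroup.mem_subgroupOf] at h2
        rw [← pow_mul, mul_comm, pow_mul]
        exact congrArg Subtype.val (pow_card_eq_one' (x := (⟨_, h2⟩ : M)))
      · have h1 : E ^ Nat.card M = 1 := by
          rw [← map_pow, show (⟨W, hWH⟩ : H) ^ Nat.card M = 1 from Subtype.ext (by simpa using hc1), map_one]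
        exact hM.three' (hem ▸ orderOf_dvd_of_pow_eq_one h1)
    obtain ⟨j, hj⟩ := hWd
    have hs3 := h.of_order hj
    have hk1 : α' * α = 1 := by
      rcases hs3.mem_cases (hs3.cent _ (hc.pow_right j).symm) with e | e | e
      · exact e
      all_goals exfalso
      · apply three'_mono hP.le hM.three'
        rw [← hj, ← e, ← Subgroup.orderOf_mk _ hk]; exact orderOf_dvd_natCard _
      · apply three'_mono hP.le hM.three'
        rw [← hj, ← orderOf_inv, ← e, ← Subgroup.orderOf_mk _ hk]; exact orderOf_dvd_natCard _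
    have hab : α = α' := by rw [← inv_eq_of_mul_eq_one_right hk1, hα'i]
    have hbb : β = β' := by
      have := e''
      rw [hW, ← hab] at this
      exact mul_left_cancel this
    rw [Prod.mk.injEq]
    exact ⟨Subtype.ext (Subtype.ext (mul_right_cancel (hα ▸ hα' ▸ hab))),
      Subtype.ext (Subtype.ext (mul_right_cancel (mul_left_cancel (mul_right_cancel (hβ ▸ hβ' ▸ hbb)))))⟩
  have horb : Nat.card P ≤ Nat.card A * Nat.card C := by
    let f : P → A := fun v => ⟨⟨(v : G) * (s * (v : G)⁻¹ * s⁻¹),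
      mul_mem v.2 ((Subgroup.mem_normalizer_iff.1 hsN _).1 (inv_mem v.2))⟩, by
        show ((v : G) * (s * (v : G)⁻¹ * s⁻¹) * s) ^ 2 = 1
        rw [show (v : G) * (s * (v : G)⁻¹ * s⁻¹) * s = (v : G) * s * (v : G)⁻¹ by group, conj_pow, hs2]; group⟩
    haveI := Fintype.ofFinite P
    haveI := Fintype.ofFinite A
    rw [Nat.card_eq_fintype_card, Nat.card_eq_fintype_card (α := A), mul_comm]
    refine Finset.card_le_mul_card_image_of_maps_to (s := Finset.univ) (t := Finset.univ) (f := f)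
      (fun _ _ => Finset.mem_univ _) (Nat.card C) fun a _ => ?_
    rcases (Finset.univ.filter fun v => f v = a).eq_empty_or_nonempty with e | ⟨v₀, hv₀⟩
    · rw [e]; simp
    rw [← Fintype.card_subtype, ← Nat.card_eq_fintype_card]
    refine Nat.card_le_card_of_injective (fun v => (⟨(v₀ : G)⁻¹ * (v.1 : G), ?_, ?_⟩ : C)) fun v w e => ?_
    · exact P.mul_mem (P.inv_mem v₀.2) v.1.2
    · have h1 : f v₀ = f v.1 := (Finset.mem_filter.1 hv₀).2.trans v.2.symm
      have h2 : (v₀ : G) * (s * (v₀ : G)⁻¹ * s⁻¹) = (v.1 : G) * (s * (v.1 : G)⁻¹ * s⁻¹) :=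
        congrArg (fun w : A => (w.1 : G)) h1
      refine Subgroup.mem_centralizer_singleton_iff.2 ?_
      calc (v₀ : G)⁻¹ * (v.1 : G) * s
          = (v₀ : G)⁻¹ * ((v.1 : G) * (s * (v.1 : G)⁻¹ * s⁻¹)) * s * (v.1 : G) := by group
        _ = s * ((v₀ : G)⁻¹ * (v.1 : G)) := by rw [← h2]; group
    · have := congrArg (fun w : C => (w : G)) e
      exact Subtype.ext (Subtype.ext (mul_left_cancel this))
  nlinarith [Nat.card_pos (α := P)]

/-- In a two-group normalized without fixed points no element has a centralizer of index two. -/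
theorem index_two_central (h : SC3 x) {P : Subgroup G} (hP : IsPGroup 2 P) (hxP : Inv' x P) {a : G} (ha : a ∈ P)
    {D : Subgroup G} (hD : ∀ v ∈ D, Commute a v) (hDP : ∀ u ∈ P, ∀ v ∈ P, u ∉ D → v ∉ D → u * v ∈ D) :
    ∀ v ∈ P, Commute a v := by
  haveI := Fact.mk Nat.prime_two
  have hP3 : Three' P := fun h3 => by
    obtain ⟨n, hn⟩ := IsPGroup.iff_card.1 hP
    have := Nat.prime_three.dvd_of_dvd_pow (hn ▸ h3)
    norm_num at this
  by_contra hne
  push Not at hne
  obtain ⟨u₀, hu₀, hu₀c⟩ := hne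
  have hC : ∀ u ∈ P, ∀ v ∈ P, ¬ Commute a u → ¬ Commute a v → Commute a (u * v) := fun u hu v hv h1 h2 =>
    hD _ (hDP u hu v hv (fun e => h1 (hD u e)) (fun e => h2 (hD v e)))
  -- a commuting element moved out
  obtain ⟨v, hv, hvc, hvx⟩ : ∃ v ∈ P, Commute a v ∧ ¬ Commute a (x * v * x⁻¹) := by
    by_contra hall
    push Not at hall
    obtain ⟨n, hn, e⟩ := h.preimage hP3 hxP hu₀
    apply hu₀c
    rw [← e]
    by_cases hnc : Commute a n
    · exact hnc.inv_right.mul_right (hall n hn hnc)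
    · have hxn : x * n * x⁻¹ ∈ P := (hxP n).1 hn
      refine hC _ (inv_mem hn) _ hxn (fun e1 => hnc (by simpa using e1.inv_right)) fun e1 => hnc ?_
      have h2 := hall _ hxn e1
      have h3 := hall _ ((hxP _).1 hxn) h2
      rw [show x * (x * (x * n * x⁻¹) * x⁻¹) * x⁻¹ = x ^ 3 * n * (x ^ 3)⁻¹ by rw [pow_three]; group, h.pow_three] at h3
      simpa using h3
  set ax := x * a * x⁻¹ with hax
  set vx := x * v * x⁻¹ with hvxd
  have haxP : ax ∈ P := (hxP a).1 ha
  have hvxP : vx ∈ P := (hxP v).1 hv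
  set w := ⁅a, vx⁆ with hw
  have hcen : ∀ p ∈ P, ∀ r ∈ P, ∀ c ∈ P, Commute c ⁅p, r⁆ := fun p hp r hr c hc => h.class_two hP hxP hp hr hc
  have bil_left : ∀ p ∈ P, ∀ p' ∈ P, ∀ r ∈ P, ⁅p * p', r⁆ = ⁅p, r⁆ * ⁅p', r⁆ := by
    intro p hp p' hp' r hr
    rw [show ⁅p * p', r⁆ = p * ⁅p', r⁆ * p⁻¹ * ⁅p, r⁆ by simp only [commutatorElement_def]; group,
      (hcen p' hp' r hr p hp).eq, mul_inv_cancel_right]
    exact (hcen p hp r hr _ (by
      simp only [commutatorElement_def]
      exact mul_mem (mul_mem (mul_mem hp' hr) (inv_mem hp')) (inv_mem hr))).eq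
  have bil_right : ∀ p ∈ P, ∀ r ∈ P, ∀ r' ∈ P, ⁅p, r * r'⁆ = ⁅p, r⁆ * ⁅p, r'⁆ := by
    intro p hp r hr r' hr'
    rw [show ⁅p, r * r'⁆ = ⁅p, r⁆ * (r * ⁅p, r'⁆ * r⁻¹) by simp only [commutatorElement_def]; group,
      (hcen p hp r' hr' r hr).eq, mul_inv_cancel_right]
  have z1 : ⁅a, ax⁆ = 1 := commutatorElement_eq_one_iff_commute.2 (h.comm_orbit hP3 hxP ha)
  have z2 : ⁅v, vx⁆ = 1 := commutatorElement_eq_one_iff_commute.2 (h.comm_orbit hP3 hxP hv)
  have z3 : ⁅a, v⁆ = 1 := commutatorElement_eq_one_iff_commute.2 hvc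
  have z4 : ⁅a * v, ax * vx⁆ = 1 := by
    refine commutatorElement_eq_one_iff_commute.2 ?_
    have := h.comm_orbit hP3 hxP (mul_mem ha hv)
    rwa [show x * (a * v) * x⁻¹ = ax * vx by rw [hax, hvxd]; group] at this
  rw [bil_left a ha v hv _ (mul_mem haxP hvxP), bil_right a ha ax haxP vx hvxP, bil_right v hv ax haxP vx hvxP,
    z1, z2, one_mul, mul_one] at z4
  have z5 : ⁅ax, v⁆ = w := by
    rw [← commutatorElement_inv v ax, ← eq_inv_of_mul_eq_one_left z4]
  -- apply x
  have hxw : x * w * x⁻¹ = w⁻¹ := by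
    have h1 : x * w * x⁻¹ = ⁅ax, x * vx * x⁻¹⁆ := by
      rw [hw, hax, show x * ⁅a, vx⁆ * x⁻¹ = ⁅x * a * x⁻¹, x * vx * x⁻¹⁆ by simp only [commutatorElement_def]; group]
    have h2 : x * vx * x⁻¹ = (v * vx)⁻¹ := by
      have := h.orbit_prod hP3 hxP hv
      rw [hvxd]
      rw [show x * x * v * (x * x)⁻¹ = x * (x * v * x⁻¹) * x⁻¹ by group] at this
      exact eq_inv_of_mul_eq_one_right this
    have h3 : ⁅ax, v * vx⁆ = w := by
      rw [bil_right ax haxP v hv vx hvxP, z5]
      have : ⁅ax, vx⁆ = 1 := by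
        rw [hax, hvxd, show ⁅x * a * x⁻¹, x * v * x⁻¹⁆ = x * ⁅a, v⁆ * x⁻¹ by simp only [commutatorElement_def]; group,
          z3]; group
      rw [this, mul_one]
    have h4 : ⁅ax, v * vx⁆ * ⁅ax, (v * vx)⁻¹⁆ = 1 := by
      rw [← bil_right ax haxP _ (mul_mem hv hvxP) _ (inv_mem (mul_mem hv hvxP)), mul_inv_cancel,
        commutatorElement_one_right]
    rw [h1, h2, eq_inv_of_mul_eq_one_right h4, h3]
  have hwP : w ∈ P := by
    rw [hw, commutatorElement_def]
    exact mul_mem (mul_mem (mul_mem ha hvxP) (inv_mem ha)) (inv_mem hvxP)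
  have hw2 : w = w⁻¹ := by
    have h2 : x * (x * w * x⁻¹) * x⁻¹ = w := by
      rw [hxw, show x * w⁻¹ * x⁻¹ = (x * w * x⁻¹)⁻¹ by group, hxw, inv_inv]
    have h3 : x * (x * (x * w * x⁻¹) * x⁻¹) * x⁻¹ = w⁻¹ := by rw [h2, hxw]
    rwa [show x * (x * (x * w * x⁻¹) * x⁻¹) * x⁻¹ = x ^ 3 * w * (x ^ 3)⁻¹ by rw [pow_three]; group, h.pow_three,
      one_mul, inv_one, mul_one] at h3
  have hfix : Commute x w := mul_inv_eq_iff_eq_mul.1 (hxw.trans hw2.symm)
  exact hvx (commutatorElement_eq_one_iff_commute.1 (h.fpf hP3 w hwP hfix))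

end CfsgLib.SelfCentThree
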