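import Mathlib
import Cfsg.Agent.Lib.SelfCentThree.Basic
import Cfsg.Agent.Lib.CharTheory.Irr
import Cfsg.Agent.Lib.CharTheory.Integral
import Cfsg.Agent.Lib.CharTheory.Schur

set_option autoImplicit false

/-!
The counting step: an element of order three which is real and self-centralizing.
-/

namespace CfsgLib.SelfCentThree

open Cfsg CfsgLib.CharTheory
open scoped ComplexConjugate

universe u

variable {G : Type u} [Group G] [Finite G] {x : G}

theorem char_int (h : SC3 x) (hr : IsConj x x⁻¹) (χ : IrrCharacter G) :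
    ∃ n : ℤ, (χ : G → ℂ) x = n := by
  obtain ⟨⟨f, hf⟩, rfl⟩ : ∃ c, c = χ := ⟨χ, rfl⟩
  have hchar := isCharacter_of_irr hf
  obtain ⟨d, ρ, hρ, rfl⟩ := hf
  show ∃ n : ℤ, ρ.character x = n
  have hreal : conj (ρ.character x) = ρ.character x := by
    rw [← char_apply_inv hchar x]
    exact (isClassFunction_iff_isConj.mp (isClassFunction_char hchar) x x⁻¹ hr).symm
  have hμ : ∀ μ ∈ charRoots ρ x, ∃ m : ℤ, μ + conj μ = m := by
    intro μ hμ
    have h3 : μ ^ 3 = 1 := by
      have := pow_eq_one_of_mem_charRoots ρ x hμ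
      rwa [h.ord] at this
    have hn : conj μ = μ ^ 2 := by
      have h0 : μ ≠ 0 := fun e => by rw [e] at h3; norm_num at h3
      apply mul_left_cancel₀ h0
      rw [Complex.mul_conj', norm_eq_one_of_mem_charRoots ρ x hμ, ← pow_succ', h3]
      norm_num
    by_cases h1 : μ = 1
    · exact ⟨2, by rw [hn, h1]; norm_num⟩
    · refine ⟨-1, ?_⟩
      rw [hn]
      have : (μ - 1) * (μ ^ 2 + μ + 1) = 0 := by linear_combination h3
      rcases mul_eq_zero.1 this with e | e
      · exact absurd (sub_eq_zero.1 e) h1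
      · push_cast; linear_combination e
  have hsum : ∀ s : Multiset ℂ, (∀ μ ∈ s, ∃ m : ℤ, μ + conj μ = m) → ∃ m : ℤ, s.sum + conj s.sum = m := by
    intro s
    induction s using Multiset.induction_on with
    | empty => exact fun _ => ⟨0, by simp⟩
    | cons a s ih =>
      intro hs
      obtain ⟨m, hm⟩ := hs a (Multiset.mem_cons_self a s)
      obtain ⟨k, hk⟩ := ih fun μ hμ => hs μ (Multiset.mem_cons_of_mem hμ)
      refine ⟨m + k, ?_⟩
      rw [Multiset.sum_cons, map_add]
      push_cast
      linear_combination hm + hk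
  obtain ⟨m, hm⟩ := hsum _ hμ
  rw [← character_eq_sum_charRoots, hreal] at hm
  have hq : ρ.character x = (((m : ℚ) / 2 : ℚ) : ℂ) := by push_cast; linear_combination hm / 2
  obtain ⟨n, hn⟩ := exists_int_of_isIntegral_ratCast (q := (m : ℚ) / 2)
    (by rw [← hq]; exact isIntegral_character ρ x)
  exact ⟨n, by rw [hq, hn]; push_cast; rfl⟩

/-- The number of factorisations of `x` as a product of two conjugates of `x`. -/
noncomputable def factCount (x : G) : ℕ := Nat.card {y : G // IsConj x y ∧ IsConj x (y⁻¹ * x)}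

theorem card_lt_nine_factCount (h : SC3 x) (hr : IsConj x x⁻¹) : Nat.card G < 9 * factCount x := by
  classical
  haveI := Fintype.ofFinite G
  choose n hn using char_int h hr
  let triv : IrrCharacter G := ⟨fun _ => 1, isIrrCharacter_one⟩
  have hcen : Nat.card (Subgroup.centralizer ({x} : Set G)) = 3 := by rw [h.centralizer_eq, h.card_zpowers]
  have hsq : ∑ χ : IrrCharacter G, n χ * n χ = 3 := by
    have e := sum_irr_mul_conj x x
    rw [if_pos (IsConj.refl x), hcen] at e
    simp only [hn, map_intCast] at e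
    exact_mod_cast e
  set S := Finset.univ.filter fun χ : IrrCharacter G => n χ ≠ 0 with hS
  have habs : ∀ χ ∈ S, n χ * n χ = 1 := by
    intro χ hχ
    have h0 : n χ ≠ 0 := (Finset.mem_filter.1 hχ).2
    have hle : n χ * n χ ≤ 3 := hsq ▸ Finset.single_le_sum (f := fun χ => n χ * n χ)
      (fun i _ => mul_self_nonneg _) (Finset.mem_univ χ)
    have h1 : n χ ≤ 1 := by nlinarith
    have h2 : -1 ≤ n χ := by nlinarith
    rcases (show n χ = 1 ∨ n χ = -1 by omega) with e | e <;> rw [e] <;> norm_num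
  have hcardS : S.card = 3 := by
    have e : ∑ χ : IrrCharacter G, n χ * n χ = ∑ χ ∈ S, n χ * n χ :=
      (Finset.sum_subset (Finset.subset_univ S) fun χ _ hχ => by
        have : n χ = 0 := by by_contra h0; exact hχ (Finset.mem_filter.2 ⟨Finset.mem_univ _, h0⟩)
        rw [this, mul_zero]).symm
    rw [hsq, Finset.sum_congr rfl habs, Finset.sum_const, nsmul_eq_mul, mul_one] at e
    exact_mod_cast e.symm
  have htriv : n triv = 1 := by
    have := hn triv
    simp only [triv] at this
    exact_mod_cast this.symm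
  have htS : triv ∈ S := Finset.mem_filter.2 ⟨Finset.mem_univ _, by rw [htriv]; norm_num⟩
  obtain ⟨χ, ψ, hne, hrest⟩ := Finset.card_eq_two.1 (show (S.erase triv).card = 2 by
    rw [Finset.card_erase_of_mem htS, hcardS])
  have hSeq : S = {triv, χ, ψ} := by rw [← Finset.insert_erase htS, hrest]
  have htne : triv ≠ χ ∧ triv ≠ ψ := by
    constructor <;> intro e <;> have := Finset.notMem_erase triv S <;> rw [hrest] at this <;> simp [e] at this
  have hχS : χ ∈ S := by rw [hSeq]; simp
  have hψS : ψ ∈ S := by rw [hSeq]; simp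
  have hdeg : ∀ c : IrrCharacter G, ∃ d : ℕ, 0 < d ∧ (c : G → ℂ) 1 = d := fun c => irr_degree_pos c.2
  obtain ⟨d, hd0, hd⟩ := hdeg χ
  obtain ⟨e, he0, he⟩ := hdeg ψ
  -- sums over all characters reduce to three terms
  have hred : ∀ f : IrrCharacter G → ℂ, (∀ c, n c = 0 → f c = 0) → ∑ c, f c = f triv + f χ + f ψ := by
    intro f hf
    rw [← Finset.sum_subset (Finset.subset_univ S) (fun c _ hc => hf c (by
      by_contra h0; exact hc (Finset.mem_filter.2 ⟨Finset.mem_univ _, h0⟩))), hSeq,
      Finset.sum_insert (by simp [htne.1, htne.2]), Finset.sum_pair hne]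
    ring
  have horth : (1 : ℤ) + n χ * d + n ψ * e = 0 := by
    have e0 := sum_irr_apply_mul_degree x
    rw [if_neg h.ne_one, hred _ (fun c hc => by rw [hn, hc]; simp)] at e0
    rw [hn, hn, hn, htriv, hd, he] at e0
    push_cast at e0
    have e1 : ((1 + n χ * d + n ψ * e : ℤ) : ℂ) = 0 := by push_cast; linear_combination e0
    exact_mod_cast e1
  set k := Nat.card {y : G // IsConj x y} with hk
  have hk3 : k * 3 = Nat.card G := by rw [hk, ← hcen]; exact card_isConj_mul_card_centralizer x
  set K := Finset.univ.filter fun y : G => IsConj x y with hK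
  have hN : (Nat.card G : ℂ) * factCount x =
      ∑ y ∈ K, ∑ w ∈ K, ∑ c : IrrCharacter G, (c : G → ℂ) (y * w * x⁻¹) * (c : G → ℂ) 1 := by
    simp only [sum_irr_apply_mul_degree]
    have hinner : ∀ y : G, (∑ w ∈ K, if y * w * x⁻¹ = 1 then (Nat.card G : ℂ) else 0) =
        if IsConj x (y⁻¹ * x) then (Nat.card G : ℂ) else 0 := by
      intro y
      have hiff : ∀ w, y * w * x⁻¹ = 1 ↔ y⁻¹ * x = w := fun w => by
        rw [mul_inv_eq_one, inv_mul_eq_iff_eq_mul, eq_comm]
      simp only [hiff, Finset.sum_ite_eq, hK, Finset.mem_filter, Finset.mem_univ, true_and]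
    simp only [hinner]
    rw [hK, ← Finset.sum_filter, Finset.filter_filter, Finset.sum_const, nsmul_eq_mul, mul_comm]
    rw [factCount, Nat.card_eq_fintype_card (α := {y : G // _}), Fintype.card_subtype]
  have hN2 : (Nat.card G : ℂ) * factCount x = (k : ℂ) * k * (1 + (n χ : ℂ) / d + (n ψ : ℂ) / e) := by
    rw [hN, Finset.sum_congr rfl fun y _ => Finset.sum_comm, Finset.sum_comm]
    have hterm : ∀ c : IrrCharacter G, (∑ y ∈ K, ∑ w ∈ K, (c : G → ℂ) (y * w * x⁻¹) * (c : G → ℂ) 1) =
        (k : ℂ) * k * ((n c : ℂ) * n c * n c) / (c : G → ℂ) 1 := by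
      intro c
      simp only [← Finset.sum_mul]
      rw [hK, sum_class_class_char c.2 x x x⁻¹, hn, char_apply_inv (isCharacter_of_irr c.2), hn, map_intCast]
      field_simp [irr_ne_zero c.2]
      rw [← hk]; ring
    simp only [hterm]
    rw [hred _ (fun c hc => by rw [hc]; simp)]
    have e1 : (n χ : ℂ) * n χ * n χ = n χ := by
      rw [← Int.cast_mul, habs χ hχS]; simp
    have e2 : (n ψ : ℂ) * n ψ * n ψ = n ψ := by
      rw [← Int.cast_mul, habs ψ hψS]; simp
    rw [htriv, e1, e2, hd, he, show (triv : G → ℂ) 1 = 1 from rfl]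
    push_cast
    ring
  have hG0 : 0 < Nat.card G := Nat.card_pos
  have hchi : n χ = 1 ∨ n χ = -1 := by
    have := habs χ hχS
    exact Int.eq_one_or_neg_one_of_mul_eq_one this
  have hpsi : n ψ = 1 ∨ n ψ = -1 := Int.eq_one_or_neg_one_of_mul_eq_one (habs ψ hψS)
  have hd' : (d : ℂ) ≠ 0 := Nat.cast_ne_zero.2 hd0.ne'
  have he' : (e : ℂ) ≠ 0 := Nat.cast_ne_zero.2 he0.ne'
  have key : (9 * factCount x * (d * e) : ℤ) = (Nat.card G : ℤ) * (d * e + n χ * e + n ψ * d) := by
    have h1 : ((9 * factCount x * (d * e) : ℤ) : ℂ) * (Nat.card G : ℂ) =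
        (((Nat.card G : ℤ) * (d * e + n χ * e + n ψ * d) : ℤ) : ℂ) * (Nat.card G : ℂ) := by
      push_cast
      have hk' : ((k : ℂ) * 3) = (Nat.card G : ℂ) := by exact_mod_cast congrArg (Nat.cast : ℕ → ℂ) hk3
      calc (9 : ℂ) * factCount x * (d * e) * (Nat.card G : ℂ)
          = 9 * (d * e) * ((Nat.card G : ℂ) * factCount x) := by ring
        _ = 9 * (d * e) * ((k : ℂ) * k * (1 + (n χ : ℂ) / d + (n ψ : ℂ) / e)) := by rw [hN2]
        _ = ((k : ℂ) * 3) * ((k : ℂ) * 3) * (d * e + n χ * e + n ψ * d) := by field_simp; ring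
        _ = _ := by rw [hk']; ring
    exact_mod_cast mul_right_cancel₀ (Nat.cast_ne_zero.2 hG0.ne') h1
  have hpos : (Nat.card G : ℤ) * (d * e) < (Nat.card G : ℤ) * (d * e + n χ * e + n ψ * d) := by
    refine mul_lt_mul_of_pos_left ?_ (by exact_mod_cast hG0)
    rcases hchi with a | a <;> rcases hpsi with b | b <;> rw [a, b] at horth ⊢ <;> omega
  have hlt : (Nat.card G : ℤ) * (d * e) < 9 * factCount x * (d * e) := key ▸ hpos
  have := lt_of_mul_lt_mul_right hlt (by positivity)
  exact_mod_cast this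

end CfsgLib.SelfCentThree
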