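import Mathlib
import Cfsg.Agent.Lib.SelfCentThree.Parts

set_option autoImplicit false

/-!
The parts at the prime two.
-/

namespace CfsgLib.SelfCentThree

universe u

variable {G : Type u} [Group G] [Finite G] {x : G}

omit [Finite G] in
theorem two_elt {Q : Subgroup G} (hQ : IsPGroup 2 Q) {s : G} (hs : s ∈ Q) : ∃ n : ℕ, s ^ 2 ^ n = 1 := by
  obtain ⟨n, hn⟩ := hQ ⟨s, hs⟩
  exact ⟨n, congrArg Subtype.val hn⟩

omit [Finite G] in
theorem eq_one_of_pow_two_three {s : G} (h2 : ∃ n : ℕ, s ^ 2 ^ n = 1) (h3 : s ^ 3 = 1) : s = 1 := by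
  obtain ⟨n, hn⟩ := h2
  have h1 := Nat.dvd_gcd (orderOf_dvd_of_pow_eq_one hn) (orderOf_dvd_of_pow_eq_one h3)
  rw [Nat.Coprime.gcd_eq_one (Nat.Coprime.pow_left n (by norm_num : Nat.Coprime 2 3))] at h1
  exact orderOf_eq_one_iff.1 (Nat.dvd_one.1 h1)

theorem inv'_centralizer {K : Subgroup G} (hK : Inv' x K) : Inv' x (Subgroup.centralizer (K : Set G)) :=
  inv'_of_le fun k hk => Subgroup.mem_centralizer_iff.2 fun q hq => by
    have h1 : x⁻¹ * q * x ∈ K := by
      have := (inv'_inv hK q).1 hq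
      simpa using this
    have h2 := Subgroup.mem_centralizer_iff.1 hk _ h1
    calc q * (x * k * x⁻¹) = x * ((x⁻¹ * q * x) * k) * x⁻¹ := by group
      _ = (x * k * x⁻¹) * q := by rw [h2]; group

theorem inv'_inf {K L : Subgroup G} (hK : Inv' x K) (hL : Inv' x L) : Inv' x (K ⊓ L) := fun k => by
  simp only [Subgroup.mem_inf]
  rw [← hK k, ← hL k]

theorem inv'_normalizer {K : Subgroup G} (hK : Inv' x K) : Inv' x (Subgroup.normalizer (K : Set G)) :=
  inv'_iff_mem_normalizer.2 (Subgroup.le_normalizer (inv'_iff_mem_normalizer.1 hK))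

theorem center_ne_bot {P : Subgroup G} (hP : IsPGroup 2 P) (h1 : P ≠ ⊥) :
    P ⊓ Subgroup.centralizer (P : Set G) ≠ ⊥ := by
  haveI := Fact.mk Nat.prime_two
  haveI : Nontrivial P := P.nontrivial_iff_ne_bot.2 h1
  haveI := hP.center_nontrivial
  obtain ⟨z, hz⟩ := exists_ne (1 : Subgroup.center P)
  intro e
  apply hz
  have : (z.1.1 : G) ∈ P ⊓ Subgroup.centralizer (P : Set G) := ⟨z.1.2, fun q hq =>
    congrArg Subtype.val (Subgroup.mem_center_iff.1 z.2 ⟨q, hq⟩)⟩
  rw [e] at this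
  exact Subtype.ext (Subtype.ext this)

theorem Part.notMem {M P : Subgroup G} (hP : Part x M P 2) {s : G} (h2 : ∃ n : ℕ, s ^ 2 ^ n = 1) (hs : s ∉ P) :
    s ∉ M := fun hm => hs (hP.mem s hm h2)

theorem subgroupOf_index_two {P T : Subgroup G} (hle : P ≤ T) (hT : Nat.card T = 2 * Nat.card P) :
    (P.subgroupOf T).index = 2 := by
  have h1 := (P.subgroupOf T).card_mul_index
  rw [Nat.card_congr (Subgroup.subgroupOfEquivOfLe hle).toEquiv, hT, mul_comm 2] at h1
  exact Nat.eq_of_mul_eq_mul_left Nat.card_pos h1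

theorem mul_mem_of_index_two {P T : Subgroup G} (hle : P ≤ T) (hT : Nat.card T = 2 * Nat.card P) {u v : G}
    (hu : u ∈ T) (hv : v ∈ T) (hu' : u ∉ P) (hv' : v ∉ P) : u * v ∈ P := by
  have := (Subgroup.mul_mem_iff_of_index_two (subgroupOf_index_two hle hT) (a := (⟨u, hu⟩ : T)) (b := ⟨v, hv⟩)).2
    (iff_of_false hu' hv')
  exact this

theorem le_normalizer_of_index_two {P T : Subgroup G} (hle : P ≤ T) (hT : Nat.card T = 2 * Nat.card P) :
    T ≤ Subgroup.normalizer (P : Set G) := by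
  haveI := Subgroup.normal_of_index_eq_two (subgroupOf_index_two hle hT)
  exact (Subgroup.normal_subgroupOf_iff_le_normalizer hle).1 ‹_›

/-- Two large parts of the same order in one two-group share their centres. -/
theorem center_le {y z : G} (hy : SC3 y) {M L P Q T : Subgroup G} (hMm : Max y M)
    (hP : Part y M P 2) (_hQ : Part z L Q 2) (hPT : P ≤ T) (hQT : Q ≤ T) (hT : IsPGroup 2 T)
    (hTP : Nat.card T = 2 * Nat.card P) (hTQ : Nat.card T = 2 * Nat.card Q) (h16 : 16 ≤ Nat.card P) (hne : P ≠ Q) :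
    Q ⊓ Subgroup.centralizer (Q : Set G) ≤ P ⊓ Subgroup.centralizer (P : Set G) := by
  classical
  intro w hw
  obtain ⟨hwQ, hwC⟩ := Subgroup.mem_inf.1 hw
  have hcw : ∀ q ∈ Q, Commute w q := fun q hq => (Subgroup.mem_centralizer_iff.1 hwC q hq).symm
  obtain ⟨u₀, hu₀, hu₀Q⟩ : ∃ u ∈ P, u ∉ Q :=
    SetLike.not_le_iff_exists.1 fun hle => hne (Subgroup.eq_of_le_of_card_ge hle (by omega))
  have hwP : w ∈ P := by
    by_contra hwP
    have hwN : w ∈ Subgroup.normalizer (M : Set G) :=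
      hP.norm.le (le_normalizer_of_index_two hPT hTP (hQT hwQ))
    have h2 := two_elt hT (hQT hwQ)
    have hb := hP.invert_small hy hMm hwN (hP.notMem h2 hwP) h2 (C := P ⊓ Q) inf_le_left
      (fun c hc => (hcw c hc.2).symm)
    have hinj : Nat.card P ≤ Nat.card ((P ⊓ Q : Subgroup G) × Bool) := by
      refine Nat.card_le_card_of_injective (fun v : P => if hv : (v : G) ∈ Q then (⟨v, v.2, hv⟩, true) else
        (⟨u₀⁻¹ * v, P.mul_mem (P.inv_mem hu₀) v.2, mul_mem_of_index_two hQT hTQ (hPT (inv_mem hu₀)) (hPT v.2)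
          (fun e => hu₀Q (by simpa using inv_mem e)) hv⟩, false)) fun a b e => ?_
      simp only at e
      split_ifs at e with ha hb
      · exact Subtype.ext (congrArg (fun p : (P ⊓ Q : Subgroup G) × Bool => (p.1 : G)) e)
      · exact absurd (congrArg Prod.snd e) (by simp)
      · exact absurd (congrArg Prod.snd e) (by simp)
      · exact Subtype.ext (mul_left_cancel (congrArg (fun p : (P ⊓ Q : Subgroup G) × Bool => (p.1 : G)) e))
    rw [Nat.card_prod, show Nat.card Bool = 2 by simp] at hinj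
    nlinarith
  refine ⟨hwP, Subgroup.mem_centralizer_iff.2 fun v hv => ?_⟩
  refine (index_two_central hy hP.pgroup hP.inv hwP (D := P ⊓ Q) (fun v hv => hcw v hv.2) ?_ v hv).eq.symm
  intro u hu v hv hu' hv'
  exact ⟨mul_mem hu hv, mul_mem_of_index_two hQT hTQ (hPT hu) (hPT hv) (fun e => hu' ⟨hu, e⟩) (fun e => hv' ⟨hv, e⟩)⟩

theorem three'_centralizer (h : SC3 x) {Z : Subgroup G} (hZ : IsPGroup 2 Z) (h1 : Z ≠ ⊥) :
    Three' (Subgroup.centralizer (Z : Set G)) :=
  three'_of_no_elt fun k hk hk3 => h1 <| (Subgroup.eq_bot_iff_forall Z).2 fun w hw => by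
    have hs := h.of_order hk3
    obtain ⟨i, hi⟩ := Subgroup.mem_zpowers_iff.1 (hs.cent w (Subgroup.mem_centralizer_iff.1 hk w hw).symm)
    refine eq_one_of_pow_two_three (two_elt hZ hw) ?_
    rw [← hi, ← zpow_natCast, ← zpow_mul, mul_comm, zpow_mul, zpow_natCast, hs.pow_three, one_zpow]

theorem two_dvd_of_part {M P : Subgroup G} (hP : IsPGroup 2 P) (h1 : P ≠ ⊥) (hle : P ≤ M) : 2 ∣ Nat.card M := by
  haveI := Fact.mk Nat.prime_two
  obtain ⟨n, hn⟩ := IsPGroup.iff_card.1 hP
  have : n ≠ 0 := fun e => h1 (Subgroup.card_eq_one.1 (by rw [hn, e, pow_zero]))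
  exact (hn ▸ dvd_pow_self 2 this).trans (Subgroup.card_dvd_of_le hle)

/-- Two large parts in one small two-group coincide. -/
theorem Setup.big_eq (S : Setup G) {y z : G} (hy : SC3 y) (hz : SC3 z) {M L P Q T : Subgroup G} (hMm : Max y M)
    (hLm : Max z L) (hP : Part y M P 2) (hQ : Part z L Q 2) (hPT : P ≤ T) (hQT : Q ≤ T) (hT : IsPGroup 2 T)
    (hTP : Nat.card T ≤ 2 * Nat.card P) (hTQ : Nat.card T ≤ 2 * Nat.card Q) (hP16 : 16 ≤ Nat.card P)
    (hQ16 : 16 ≤ Nat.card Q) : P = Q := by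
  by_contra hne
  haveI := Fact.mk Nat.prime_two
  obtain ⟨a, ha⟩ := IsPGroup.iff_card.1 hP.pgroup
  obtain ⟨b, hb⟩ := IsPGroup.iff_card.1 hQ.pgroup
  obtain ⟨c, hc⟩ := IsPGroup.iff_card.1 hT
  have hl : ∀ {i j : ℕ}, 2 ^ i ≤ 2 ^ j → i ≤ j := fun h => (Nat.pow_le_pow_iff_right (by norm_num)).1 h
  have h1 : a ≤ c := hl (ha ▸ hc ▸ Nat.card_le_card_of_injective _ (Subgroup.inclusion_injective hPT))
  have h2 : b ≤ c := hl (hb ▸ hc ▸ Nat.card_le_card_of_injective _ (Subgroup.inclusion_injective hQT))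
  have h3 : c ≤ a + 1 := hl (by rw [pow_succ, mul_comm, ← ha, ← hc]; exact hTP)
  have h4 : c ≤ b + 1 := hl (by rw [pow_succ, mul_comm, ← hb, ← hc]; exact hTQ)
  have hmod : ∀ n : ℕ, 2 ^ n % 3 = if n % 2 = 0 then 1 else 2 := by
    intro n
    induction n with
    | zero => rfl
    | succ n ih =>
      rw [pow_succ, Nat.mul_mod, ih]
      rcases Nat.mod_two_eq_zero_or_one n with e | e <;> simp [e, Nat.add_mod]
  have ma := hy.card_mod_three (three'_mono hP.le hMm.three') hP.inv
  have mb := hz.card_mod_three (three'_mono hQ.le hLm.three') hQ.inv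
  rw [ha, hmod] at ma
  rw [hb, hmod] at mb
  have pa : a % 2 = 0 := by by_contra e; simp [e] at ma
  have pb : b % 2 = 0 := by by_contra e; simp [e] at mb
  have hca : c = a + 1 ∧ c = b + 1 := by
    rcases (show c = a ∨ c = a + 1 by omega) with e | e
    · exfalso
      have hPe : P = T := Subgroup.eq_of_le_of_card_ge hPT (by rw [ha, hc, e])
      have : b = a := by omega
      exact hne (hPe.trans (Subgroup.eq_of_le_of_card_ge hQT (by rw [hb, hc, e, this])).symm)
    · omega
  have eP : Nat.card T = 2 * Nat.card P := by rw [hc, ha, hca.1, pow_succ, mul_comm]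
  have eQ : Nat.card T = 2 * Nat.card Q := by rw [hc, hb, hca.2, pow_succ, mul_comm]
  have hZ : P ⊓ Subgroup.centralizer (P : Set G) = Q ⊓ Subgroup.centralizer (Q : Set G) :=
    le_antisymm (center_le hz hLm hQ hP hQT hPT hT eQ eP hQ16 (Ne.symm hne))
      (center_le hy hMm hP hQ hPT hQT hT eP eQ hP16 hne)
  set Z := P ⊓ Subgroup.centralizer (P : Set G)
  have hC3 := three'_centralizer hy (hP.pgroup.to_le (inf_le_left : Z ≤ P)) (center_ne_bot hP.pgroup hP.ne_bot)
  have hPC : P ≤ Subgroup.centralizer (Z : Set G) := fun p hp => Subgroup.mem_centralizer_iff.2 fun w hw =>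
    (Subgroup.mem_centralizer_iff.1 (Subgroup.mem_inf.1 hw).2 p hp).symm
  have hQC : Q ≤ Subgroup.centralizer (Z : Set G) := fun p hp => Subgroup.mem_centralizer_iff.2 fun w hw =>
    (Subgroup.mem_centralizer_iff.1 (Subgroup.mem_inf.1 (hZ ▸ hw)).2 p hp).symm
  have hyC : Inv' y (Subgroup.centralizer (Z : Set G)) :=
    inv'_centralizer (inv'_inf hP.inv (inv'_centralizer hP.inv))
  obtain ⟨L', hL', hCL⟩ := exists_max hC3 hyC fun e => hP.ne_bot (le_bot_iff.1 (e ▸ hPC))
  obtain ⟨P', hP'⟩ := S.part hy hL' 2 (two_dvd_of_part hP.pgroup hP.ne_bot (hPC.trans hCL))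
  have hPP' : P ≤ P' := fun k hk => hP'.mem k (hCL (hPC hk)) (two_elt hP.pgroup hk)
  have hQP' : Q ≤ P' := fun k hk => hP'.mem k (hCL (hQC hk)) (two_elt hQ.pgroup hk)
  have he : P' = P := by
    rcases hPP'.eq_or_lt with e | hlt
    · exact e.symm
    exfalso
    have hg := normalizer_grows hP'.pgroup hlt
    have hK := hP.absorb (P' ⊓ Subgroup.normalizer (P : Set G)) y hy.ord (inv'_iff_mem_normalizer.1 hMm.inv)
      (three'_mono (inf_le_left.trans hP'.le) hL'.three') (inv'_inf hP'.inv (inv'_normalizer hP.inv))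
      (inf_le_right.trans hP.norm.le)
    exact hg.not_ge fun k hk => hP.mem k (hK hk) (two_elt hP'.pgroup (Subgroup.mem_inf.1 hk).1)
  exact hne (Subgroup.eq_of_le_of_card_ge (he ▸ hQP') (by omega)).symm

/-- A large part has index at most two in any two-group. -/
theorem Setup.sylow_big (S : Setup G) (h : SC3 x) {M P T : Subgroup G} (hMm : Max x M) (hP : Part x M P 2)
    (hP16 : 16 ≤ Nat.card P) (hT : IsPGroup 2 T) (hPT : P ≤ T) : Nat.card T ≤ 2 * Nat.card P := by
  haveI := Fact.mk Nat.prime_two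
  set T₀ := T ⊓ Subgroup.normalizer (P : Set G) with hT₀
  have h2 : IsPGroup 2 T₀ := hT.to_le inf_le_left
  have hb := hP.card_normalizer_two h2 inf_le_right
  rcases (inf_le_left : T₀ ≤ T).eq_or_lt with e | hlt
  · rw [← e]; exact hb
  exfalso
  obtain ⟨g, hg, hg0⟩ := SetLike.exists_of_lt (normalizer_grows hT hlt)
  have hP0 : P ≤ T₀ := le_inf hPT Subgroup.le_normalizer
  have hmap : P.map (MulAut.conj g).toMonoidHom ≤ T₀ :=
    (Subgroup.map_mono hP0).trans (inv'_iff_map.1 (inv'_iff_mem_normalizer.2 (Subgroup.mem_inf.1 hg).2)).le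
  have he := S.big_eq h (h.conj g) hMm (hMm.conj g) hP (hP.conj g) hP0 hmap h2 hb
    (by rw [map_conj_card]; exact hb) hP16 (by rw [map_conj_card]; exact hP16)
  exact hg0 ⟨(Subgroup.mem_inf.1 hg).1, inv'_iff_mem_normalizer.1 (inv'_iff_map.2 he.symm)⟩

/-- A part of order four is elementary. -/
theorem Part.four_sq (h : SC3 x) {M V : Subgroup G} (hMm : Max x M) (hV : Part x M V 2) (h4 : Nat.card V = 4) :
    (∀ a ∈ V, ∀ b ∈ V, Commute a b) ∧ ∀ v ∈ V, v ^ 2 = 1 := by
  haveI := Fact.mk Nat.prime_two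
  have hc : ∀ a ∈ V, ∀ b ∈ V, Commute a b := fun a ha b hb => congrArg Subtype.val
    (IsPGroup.commutative_of_card_eq_prime_sq (p := 2) (G := V) (by rw [h4]; rfl) ⟨a, ha⟩ ⟨b, hb⟩)
  refine ⟨hc, fun v hv => ?_⟩
  set K := Subgroup.closure {w : G | w ∈ V ∧ w ^ 2 = 1}
  have hKV : K ≤ V := (Subgroup.closure_le _).2 fun w hw => hw.1
  have hK2 : ∀ k ∈ K, k ^ 2 = 1 := closure_pow (fun a ha b hb => hc a ha.1 b hb.1) (fun a ha => ha.2)
  have hxK : Inv' x K := inv'_of_le fun k hk => Subgroup.subset_closure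
    ⟨(hV.inv k).1 (hKV hk), by rw [conj_pow, hK2 k hk]; group⟩
  obtain ⟨w, hw⟩ := exists_prime_orderOf_dvd_card' (G := V) 2 (h4 ▸ ⟨2, rfl⟩)
  have hwK : (w : G) ∈ K := Subgroup.subset_closure
    ⟨w.2, orderOf_dvd_iff_pow_eq_one.1 (by rw [Subgroup.orderOf_coe, hw])⟩
  have hK1 : Nat.card K ≠ 1 := fun e => by
    rw [Subgroup.card_eq_one.1 e, Subgroup.mem_bot] at hwK
    rw [← Subgroup.orderOf_coe, hwK, orderOf_one] at hw
    norm_num at hw
  have hm := h.card_mod_three (three'_mono (hKV.trans hV.le) hMm.three') hxK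
  have hd := h4 ▸ Subgroup.card_dvd_of_le hKV
  have hle := Nat.le_of_dvd (by norm_num) hd
  have hK4 : Nat.card V ≤ Nat.card K := by omega
  rw [← Subgroup.eq_of_le_of_card_ge hKV hK4] at hv
  exact hK2 v hv

/-- A part of order four contains the two-elements centralizing it. -/
theorem Part.four_cent (h : SC3 x) {M V : Subgroup G} (hMm : Max x M) (hV : Part x M V 2) (h4 : Nat.card V = 4)
    {s : G} (h2 : ∃ n : ℕ, s ^ 2 ^ n = 1) (hc : ∀ v ∈ V, Commute v s) : s ∈ V := by
  by_contra hsV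
  have hsN : s ∈ Subgroup.normalizer (V : Set G) := Subgroup.mem_normalizer_iff.2 fun v => by
    constructor
    · intro hv; rwa [show s * v * s⁻¹ = v by rw [← (hc v hv).eq]; group]
    · intro hv
      have := hc _ hv
      have e : v = s * v * s⁻¹ := by
        have e' := this.eq
        calc v = s⁻¹ * ((s * v * s⁻¹) * s) := by group
          _ = _ := by rw [e']; group
      rwa [e]
  have := hV.invert_small h hMm (hV.norm.le hsN) (hV.notMem h2 hsV) h2 le_rfl hc
  rw [h4] at this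
  omega

/-- Two non-trivial distinct elements of a subgroup of order four generate it. -/
theorem four_gen {V K : Subgroup G} (h4 : Nat.card V = 4) (hK : K ≤ V) {a b : G} (ha : a ∈ K) (hb : b ∈ K)
    (ha1 : a ≠ 1) (hb1 : b ≠ 1) (hab : a ≠ b) : K = V := by
  refine Subgroup.eq_of_le_of_card_ge hK ?_
  have h3 : 3 ≤ Nat.card K := by
    have hi : Function.Injective (fun i : Fin 3 => (![⟨1, one_mem K⟩, ⟨a, ha⟩, ⟨b, hb⟩] : Fin 3 → K) i) := by
      intro i j e
      have e' := congrArg Subtype.val e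
      fin_cases i <;> fin_cases j <;> simp_all
    simpa using Nat.card_le_card_of_injective _ hi
  have hd := h4 ▸ Subgroup.card_dvd_of_le hK
  have hle := Nat.le_of_dvd (by norm_num) hd
  rcases (show Nat.card K = 3 ∨ Nat.card K = 4 by omega) with e | e
  · rw [e] at hd; norm_num at hd
  · omega

theorem exists_central {T : Subgroup G} (hT : IsPGroup 2 T) (h1 : T ≠ ⊥) :
    ∃ z ∈ T, z ≠ 1 ∧ ∀ w ∈ T, Commute z w := by
  obtain ⟨z, hz⟩ := SetLike.not_le_iff_exists.1 fun e => center_ne_bot hT h1 (le_bot_iff.1 e)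
  exact ⟨z, (Subgroup.mem_inf.1 hz.1).1, hz.2, fun w hw =>
    (Subgroup.mem_centralizer_iff.1 (Subgroup.mem_inf.1 hz.1).2 w hw).symm⟩

/-- A large part and a part of order four do not lie in one two-group. -/
theorem Setup.not_coexist (S : Setup G) {y z : G} (hy : SC3 y) (hz : SC3 z) {M L P V T : Subgroup G}
    (hMm : Max y M) (hLm : Max z L) (hP : Part y M P 2) (hV : Part z L V 2) (hP16 : 16 ≤ Nat.card P)
    (h4 : Nat.card V = 4) (hT : IsPGroup 2 T) (hPT : P ≤ T) (hVT : V ≤ T) : False := by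
  haveI := Fact.mk Nat.prime_two
  obtain ⟨z₀, hz₀T, hz₀1, hz₀c⟩ := exists_central hT fun e => hP.ne_bot (le_bot_iff.1 (e ▸ hPT))
  have hz₀V : z₀ ∈ V := hV.four_cent hz hLm h4 (two_elt hT hz₀T) fun v hv => (hz₀c v (hVT hv)).symm
  obtain ⟨hVc, hV2⟩ := hV.four_sq hz hLm h4
  obtain ⟨s, hsV, hsP⟩ : ∃ s ∈ V, s ∉ P := SetLike.not_le_iff_exists.1 fun hVP => by
    have hzp : P ⊓ Subgroup.centralizer (P : Set G) ≤ V := fun w hw => hV.four_cent hz hLm h4
      (two_elt hP.pgroup (Subgroup.mem_inf.1 hw).1)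
      fun v hv => Subgroup.mem_centralizer_iff.1 (Subgroup.mem_inf.1 hw).2 v (hVP hv)
    have hzn := center_ne_bot hP.pgroup hP.ne_bot
    have hm := hy.card_mod_three (three'_mono (inf_le_left.trans hP.le) hMm.three')
      (inv'_inf hP.inv (inv'_centralizer hP.inv))
    have hd := h4 ▸ Subgroup.card_dvd_of_le hzp
    have hle := Nat.le_of_dvd (by norm_num) hd
    have h1 : Nat.card (P ⊓ Subgroup.centralizer (P : Set G) : Subgroup G) ≠ 1 :=
      fun e => hzn (Subgroup.card_eq_one.1 e)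
    have he := Subgroup.eq_of_le_of_card_ge hzp (by omega)
    have hPV : P ≤ V := fun p hp => hV.four_cent hz hLm h4 (two_elt hP.pgroup hp) fun v hv => by
      rw [← he] at hv
      exact (Subgroup.mem_centralizer_iff.1 (Subgroup.mem_inf.1 hv).2 p hp).symm
    have := Nat.card_le_card_of_injective _ (Subgroup.inclusion_injective hPV)
    omega
  have hTP : Nat.card T = 2 * Nat.card P := by
    refine le_antisymm (S.sylow_big hy hMm hP hP16 hT hPT) ?_
    obtain ⟨a, ha⟩ := IsPGroup.iff_card.1 hP.pgroup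
    obtain ⟨c, hc⟩ := IsPGroup.iff_card.1 hT
    have hlt : Nat.card P < Nat.card T := lt_of_not_ge fun e =>
      hsP (Subgroup.eq_of_le_of_card_ge hPT e ▸ hVT hsV)
    rw [ha, hc] at hlt ⊢
    rw [← pow_succ']
    exact Nat.pow_le_pow_right (by norm_num) ((Nat.pow_lt_pow_iff_right (by norm_num)).1 hlt)
  have hTN := (le_normalizer_of_index_two hPT hTP).trans hP.norm.le
  have hzP : z₀ ∈ P := by
    by_contra hzP
    have h2 := two_elt hT hz₀T
    have := hP.invert_small hy hMm (hTN hz₀T) (hP.notMem h2 hzP) h2 le_rfl fun c hc => (hz₀c c (hPT hc)).symm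
    nlinarith
  have hbd := hP.involution_bound hy hMm (hTN (hVT hsV)) (hP.notMem (two_elt hT (hVT hsV)) hsP) (hV2 s hsV)
  have hsub : P ⊓ Subgroup.centralizer ({s} : Set G) ≤ P ⊓ V := fun c hc => by
    obtain ⟨hcP, hcs⟩ := Subgroup.mem_inf.1 hc
    refine ⟨hcP, hV.four_cent hz hLm h4 (two_elt hP.pgroup hcP) ?_⟩
    have hK : V ⊓ Subgroup.centralizer ({c} : Set G) = V := four_gen h4 inf_le_left (a := z₀) (b := s)
      ⟨hz₀V, Subgroup.mem_centralizer_singleton_iff.2 (hz₀c c (hPT hcP)).eq⟩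
      ⟨hsV, Subgroup.mem_centralizer_singleton_iff.2 (Subgroup.mem_centralizer_singleton_iff.1 hcs).symm⟩
      hz₀1 (fun e => hsP (e ▸ one_mem P)) (fun e => hsP (e ▸ hzP))
    intro v hv
    rw [← hK] at hv
    exact Subgroup.mem_centralizer_singleton_iff.1 (Subgroup.mem_inf.1 hv).2
  have hd := h4 ▸ Subgroup.card_dvd_of_le (inf_le_right : P ⊓ V ≤ V)
  have h3 : Nat.card (P ⊓ V : Subgroup G) ≤ 2 := by
    by_contra hgt
    have hle := Nat.le_of_dvd (by norm_num) hd
    rcases (show Nat.card (P ⊓ V : Subgroup G) = 3 ∨ Nat.card (P ⊓ V : Subgroup G) = 4 by omega) with e | e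
    · rw [e] at hd; norm_num at hd
    · rw [← Subgroup.eq_of_le_of_card_ge (inf_le_right : P ⊓ V ≤ V) (by omega)] at hsV
      exact hsP hsV.1
  have h5 := Nat.card_le_card_of_injective _ (Subgroup.inclusion_injective hsub)
  nlinarith

theorem exists_conj_le {P : Subgroup G} (hP : IsPGroup 2 P) (T : Sylow 2 G) :
    ∃ g : G, P.map (MulAut.conj g).toMonoidHom ≤ (T : Subgroup G) := by
  haveI := Fact.mk Nat.prime_two
  obtain ⟨T', hT'⟩ := hP.exists_le_sylow
  obtain ⟨g, rfl⟩ := MulAction.exists_smul_eq G T' T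
  refine ⟨g, ?_⟩
  rintro _ ⟨k, hk, rfl⟩
  exact ⟨k, hT' hk, rfl⟩

/-- An outer two-element of the normalizer makes the maximal subgroup invariant under the inverting element. -/
theorem Part.fixed_of_outer (h : SC3 x) {t : G} (ht : t * x * t⁻¹ = x⁻¹) {M P : Subgroup G} {q : ℕ} (hMm : Max x M)
    (hP : Part x M P q) {s : G} (hsN : s ∈ Subgroup.normalizer (M : Set G)) (hsM : s ∉ M)
    (h2 : ∃ n : ℕ, s ^ 2 ^ n = 1) : M.map (MulAut.conj t).toMonoidHom = M := by
  set H := Subgroup.normalizer (M : Set G) with hH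
  have hxH : x ∈ H := inv'_iff_mem_normalizer.1 hMm.inv
  haveI : (M.subgroupOf H).Normal := Subgroup.normal_in_normalizer
  have hM3 : Three' (M.subgroupOf H) := fun e => hMm.three'
    (by rwa [Nat.card_congr (Subgroup.subgroupOfEquivOfLe Subgroup.le_normalizer).toEquiv] at e)
  set f := QuotientGroup.mk' (M.subgroupOf H) with hf
  have hs := (h.sub H hxH).quot (M.subgroupOf H) hM3
  set X := f ⟨x, hxH⟩
  haveI : (Subgroup.zpowers X).Normal := by
    have hidx : (M.subgroupOf H).index = 3 ∨ (M.subgroupOf H).index = 6 := by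
      have h1 := (M.subgroupOf H).card_mul_index
      rw [Nat.card_congr (Subgroup.subgroupOfEquivOfLe Subgroup.le_normalizer).toEquiv] at h1
      have := Nat.card_pos (α := M)
      rcases hP.card_norm with e | e
      · left; rw [e, mul_comm 3] at h1; exact Nat.eq_of_mul_eq_mul_left this h1
      · right; rw [e, mul_comm 6] at h1; exact Nat.eq_of_mul_eq_mul_left this h1
    have h1 := (Subgroup.zpowers X).card_mul_index
    rw [hs.card_zpowers, ← Subgroup.index_eq_card] at h1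
    rcases hidx with e | e <;> rw [e] at h1
    · have : (Subgroup.zpowers X).index = 1 := by omega
      rw [Subgroup.index_eq_one.1 this]; infer_instance
    · exact Subgroup.normal_of_index_eq_two (by omega)
  set σ := f ⟨s, hsN⟩
  have hσ : σ ≠ 1 := fun e => hsM ((QuotientGroup.eq_one_iff (N := M.subgroupOf H) ⟨s, hsN⟩).1 e)
  have hinv : σ * X * σ⁻¹ = X⁻¹ := by
    rcases hs.mem_cases (Subgroup.Normal.conj_mem ‹_› X (Subgroup.mem_zpowers X) σ) with e | e | e
    · exact absurd (conj_eq_one_iff.1 e) hs.ne_one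
    · exfalso
      obtain ⟨i, hi⟩ := Subgroup.mem_zpowers_iff.1 (hs.cent σ (mul_inv_eq_iff_eq_mul.1 e).symm)
      refine hσ (eq_one_of_pow_two_three ?_ ?_)
      · obtain ⟨n, hn⟩ := h2
        exact ⟨n, by rw [← map_pow, show (⟨s, hsN⟩ : H) ^ 2 ^ n = 1 from Subtype.ext hn, map_one]⟩
      · rw [← hi, ← zpow_natCast, ← zpow_mul, mul_comm, zpow_mul, zpow_natCast, hs.pow_three, one_zpow]
    · exact e
  have hv : s * x * s⁻¹ * x ∈ M := by
    have h1 : f (⟨s, hsN⟩ * ⟨x, hxH⟩ * ⟨s, hsN⟩⁻¹ * ⟨x, hxH⟩) = 1 := by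
      rw [map_mul, map_mul, map_mul, map_inv, hinv, inv_mul_cancel]
    exact (QuotientGroup.eq_one_iff (N := M.subgroupOf H) ((⟨s, hsN⟩ : H) * (⟨x, hxH⟩ : H) * (⟨s, hsN⟩ : H)⁻¹ *
      (⟨x, hxH⟩ : H))).1 h1
  obtain ⟨n, hn, e⟩ := h.inv.coset_conj hMm.three' (inv'_inv hMm.inv) hv
  rw [mul_inv_cancel_right] at e
  set g := n⁻¹ * s with hg
  have hgN : g ∈ H := mul_mem (inv_mem (Subgroup.le_normalizer hn)) hsN
  have hgx : g * x * g⁻¹ = x⁻¹ := by
    rw [hg, show n⁻¹ * s * x * (n⁻¹ * s)⁻¹ = n⁻¹ * (s * x * s⁻¹) * n by group, ← e]; group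
  have hne : x⁻¹ ≠ x := fun e' => by
    have h2' : x ^ 2 = 1 := by rw [pow_two]; nth_rewrite 1 [← e']; exact inv_mul_cancel x
    have := orderOf_dvd_of_pow_eq_one h2'
    rw [h.ord] at this
    norm_num at this
  rcases normalizer_cases h ht (Or.inr hgx) with e1 | e1
  · obtain ⟨i, hi⟩ := Subgroup.mem_zpowers_iff.1 e1
    refine absurd (hgx.symm.trans ?_) hne
    rw [← hi]; group
  · have h1 : g * t ∈ H := Subgroup.zpowers_le.2 hxH e1
    have h3 : t ∈ H := by simpa using mul_mem (inv_mem hgN) h1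
    exact inv'_iff_map.1 (inv'_iff_mem_normalizer.2 h3)

theorem Rel.symm {t : G} (ht2 : t ^ 2 = 1) {M L : Subgroup G} (h : Rel t M L) : Rel t L M := by
  rcases h with e | e
  · exact Or.inl e.symm
  · right
    rw [e, map_conj_mul, ← pow_two, ht2]
    ext k; simp [mem_map_conj]

/-- What two unrelated maximal subgroups of even order look like. -/
theorem Setup.nonrel_two (S : Setup G) (h : SC3 x) {t : G} (ht2 : t ^ 2 = 1) (ht : t * x * t⁻¹ = x⁻¹)
    {M L P Q : Subgroup G} (hMm : Max x M) (hLm : Max x L) (hP : Part x M P 2) (hQ : Part x L Q 2)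
    (hnr : ¬ Rel t M L) :
    Nat.card P = 4 ∧ M.map (MulAut.conj t).toMonoidHom = M ∧ 8 ∣ Nat.card G := by
  haveI := Fact.mk Nat.prime_two
  obtain ⟨T, hPT⟩ := hP.pgroup.exists_le_sylow
  obtain ⟨g, hQT⟩ := exists_conj_le hQ.pgroup T
  have hgc := map_conj_card g Q
  rcases hP.card_four_pow h hMm with p4 | p16
  swap
  · exfalso
    rcases hQ.card_four_pow h hLm with q4 | q16
    · exact S.not_coexist h (h.conj g) hMm (hLm.conj g) hP (hQ.conj g) p16 (hgc.trans q4) T.2 hPT hQT
    · exact hnr ((rel_of_part h ht hLm hMm hQ hP (g := g) (S.big_eq h (h.conj g) hMm (hLm.conj g) hP (hQ.conj g)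
        hPT hQT T.2 (S.sylow_big h hMm hP p16 T.2 hPT)
        (S.sylow_big (h.conj g) (hLm.conj g) (hQ.conj g) (hgc ▸ q16) T.2 hQT) p16 (hgc ▸ q16)).symm).symm ht2)
  rcases hQ.card_four_pow h hLm with q4 | q16
  swap
  · exact (S.not_coexist (h.conj g) h (hLm.conj g) hMm (hQ.conj g) hP (hgc ▸ q16) p4 T.2 hQT hPT).elim
  have hlt : P < (T : Subgroup G) := by
    refine lt_of_le_of_ne hPT fun e => hnr ((rel_of_part h ht hLm hMm hQ hP (g := g)
      (Subgroup.eq_of_le_of_card_ge (e ▸ hQT) (by rw [hgc, q4, p4]))).symm ht2)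
  obtain ⟨s, hs, hsP⟩ := SetLike.exists_of_lt (normalizer_grows T.2 hlt)
  have hs2 := two_elt T.2 (Subgroup.mem_inf.1 hs).1
  refine ⟨p4, hP.fixed_of_outer h ht hMm (hP.norm.le (Subgroup.mem_inf.1 hs).2) (hP.notMem hs2 hsP) hs2, ?_⟩
  obtain ⟨n, hn⟩ := IsPGroup.iff_card.1 T.2
  have h4 : Nat.card P < Nat.card (T : Subgroup G) := lt_of_not_ge fun e =>
    hlt.ne (Subgroup.eq_of_le_of_card_ge hPT e)
  rw [p4, hn, show (4 : ℕ) = 2 ^ 2 from rfl, Nat.pow_lt_pow_iff_right (by norm_num)] at h4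
  exact ((pow_dvd_pow 2 h4).trans hn.symm.dvd).trans (T : Subgroup G).card_subgroup_dvd_card

omit [Finite G] in
/-- A two-group has at most two classes of involutions with centralizer of order four, unless it has order four. -/
theorem two_classes {T : Type u} [Group T] [Finite T] (hT : IsPGroup 2 T) (h8 : 4 < Nat.card T) (v : Fin 3 → T)
    (hv : ∀ i, v i ^ 2 = 1) (hc : ∀ i, Nat.card (Subgroup.centralizer ({v i} : Set T)) = 4)
    (hnc : ∀ i j, IsConj (v i) (v j) → i = j) : False := by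
  haveI := Fact.mk Nat.prime_two
  set D := commutator T with hD
  obtain ⟨n, hn⟩ := IsPGroup.iff_card.1 hT
  have hidx : 4 ≤ D.index := by
    by_contra hlt
    obtain ⟨k, hk⟩ := (Nat.dvd_prime_pow Nat.prime_two).1 (hn ▸ D.index_dvd_card)
    have hk1 : k ≤ 1 := by
      by_contra hk2
      exact hlt (hk.2 ▸ (show 2 ^ 2 ≤ 2 ^ k from Nat.pow_le_pow_right (by norm_num) (by omega)))
    obtain ⟨g, hg⟩ : ∃ g : T, ∀ M : Subgroup T, g ∈ M → D ≤ M → M = ⊤ := by
      rcases (show k = 0 ∨ k = 1 by omega) with rfl | rfl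
      · exact ⟨1, fun M _ hM => top_le_iff.1 ((Subgroup.index_eq_one.1 hk.2) ▸ hM)⟩
      · obtain ⟨g, hg⟩ := Subgroup.index_eq_two_iff_exists_notMem_and.1 hk.2
        refine ⟨g, fun M hgM hM => eq_top_iff.2 fun b _ => ?_⟩
        rcases hg.2 b with e | e
        · simpa using mul_mem (hM e) (inv_mem hgM)
        · exact hM e
    by_cases hgtop : Subgroup.zpowers g = ⊤
    · have : Subgroup.centralizer ({v 0} : Set T) = ⊤ := by
        refine eq_top_iff.2 fun a _ => Subgroup.mem_centralizer_singleton_iff.2 ?_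
        obtain ⟨i, rfl⟩ := Subgroup.mem_zpowers_iff.1 (hgtop ▸ Subgroup.mem_top a)
        obtain ⟨j, hj⟩ := Subgroup.mem_zpowers_iff.1 (hgtop ▸ Subgroup.mem_top (v 0))
        rw [← hj]
        exact (Commute.refl g).zpow_zpow i j
      have := hc 0
      rw [‹Subgroup.centralizer ({v 0} : Set T) = ⊤›, Subgroup.card_top] at this
      omega
    · have hz : IsPGroup 2 (Subgroup.zpowers g) := hT.to_subgroup _
      obtain ⟨a, ha⟩ := IsPGroup.iff_card.1 hz
      have han : a < n := by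
        refine (Nat.pow_lt_pow_iff_right (show 1 < 2 by norm_num)).1 ?_
        rw [← ha, ← hn]
        exact lt_of_not_ge fun e => hgtop (Subgroup.eq_top_of_le_card _ e)
      obtain ⟨M, hM, hgM⟩ := Sylow.exists_subgroup_card_pow_prime_le 2 (n := a) (m := n - 1)
        (show 2 ^ (n - 1) ∣ Nat.card T by rw [hn]; exact pow_dvd_pow 2 (by omega)) (Subgroup.zpowers g) ha (by omega)
      have hMi : M.index = 2 := by
        have h1 := M.card_mul_index
        rw [hM, hn, show 2 ^ n = 2 ^ (n - 1) * 2 by rw [← pow_succ]; congr 1; omega] at h1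
        exact Nat.eq_of_mul_eq_mul_left (by positivity) h1
      haveI := Subgroup.normal_of_index_eq_two hMi
      have hDM : D ≤ M := by
        haveI : IsCyclic (T ⧸ M) := isCyclic_of_prime_card (p := 2) (by rw [← Subgroup.index_eq_card, hMi])
        exact (Subgroup.Normal.quotient_commutative_iff_commutator_le (N := M)).1
          ⟨⟨fun a b => IsCyclic.commGroup.mul_comm a b⟩⟩
      rw [hg M (hgM (Subgroup.mem_zpowers g)) hDM, Subgroup.index_top] at hMi
      omega
  -- the conjugates of each involution fill a coset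
  have hmem : ∀ i (a : T), (v i)⁻¹ * (a * v i * a⁻¹) ∈ D := fun i a => by
    have := Subgroup.commutator_mem_commutator (Subgroup.mem_top ((v i)⁻¹)) (Subgroup.mem_top a)
    rw [← commutator_def] at this
    simpa [commutatorElement_def, mul_assoc] using this
  have hcard := D.card_mul_index
  have hfill : ∀ i, ∀ d ∈ D, IsConj (v i) (v i * d) := by
    intro i d hd
    set C := Subgroup.centralizer ({v i} : Set T)
    let φ : T ⧸ C → D := fun q => ⟨_, hmem i q.out⟩
    have hinj : Function.Injective φ := fun q r e => by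
      have e' : (v i)⁻¹ * (q.out * v i * q.out⁻¹) = (v i)⁻¹ * (r.out * v i * r.out⁻¹) := congrArg Subtype.val e
      rw [← q.out_eq', ← r.out_eq', QuotientGroup.eq]
      refine Subgroup.mem_centralizer_singleton_iff.2 ?_
      have e'' := mul_left_cancel e'
      calc q.out⁻¹ * r.out * v i = q.out⁻¹ * (r.out * v i * r.out⁻¹) * r.out := by group
        _ = _ := by rw [← e'']; group
    have h1 := C.card_mul_index
    rw [hc i, Subgroup.index_eq_card] at h1
    have hle : Nat.card D ≤ Nat.card (T ⧸ C) := by nlinarith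
    have hbij : Function.Bijective φ := (Nat.bijective_iff_injective_and_card φ).2
      ⟨hinj, le_antisymm (Nat.card_le_card_of_injective φ hinj) hle⟩
    obtain ⟨q, hq⟩ := hbij.2 ⟨d, hd⟩
    have e : (v i)⁻¹ * (q.out * v i * q.out⁻¹) = d := congrArg Subtype.val hq
    exact isConj_iff.2 ⟨q.out, by rw [← e]; group⟩
  have hidx4 : D.index = 4 := by
    refine le_antisymm ?_ hidx
    set C := Subgroup.centralizer ({v 0} : Set T)
    have hinj : Function.Injective (fun q : T ⧸ C => (⟨_, hmem 0 q.out⟩ : D)) := fun q r e => by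
      have e' : (v 0)⁻¹ * (q.out * v 0 * q.out⁻¹) = (v 0)⁻¹ * (r.out * v 0 * r.out⁻¹) := congrArg Subtype.val e
      rw [← q.out_eq', ← r.out_eq', QuotientGroup.eq]
      refine Subgroup.mem_centralizer_singleton_iff.2 ?_
      have e'' := mul_left_cancel e'
      calc q.out⁻¹ * r.out * v 0 = q.out⁻¹ * (r.out * v 0 * r.out⁻¹) * r.out := by group
        _ = _ := by rw [← e'']; group
    have h1 := C.card_mul_index
    rw [hc 0, Subgroup.index_eq_card] at h1
    have := Nat.card_le_card_of_injective _ hinj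
    have := Nat.card_pos (α := D)
    nlinarith
  have hv1 : ∀ i, v i ≠ 1 := fun i e => by
    have := hc i
    rw [show Subgroup.centralizer ({v i} : Set T) = ⊤ from
      eq_top_iff.2 fun a _ => Subgroup.mem_centralizer_singleton_iff.2 (by rw [e]; simp), Subgroup.card_top] at this
    omega
  have hvD : ∀ i, v i ∉ D := fun i hi => by
    obtain ⟨c, hc'⟩ := isConj_iff.1 (hfill i _ (inv_mem hi))
    rw [mul_inv_cancel] at hc'
    exact hv1 i (conj_eq_one_iff.1 hc')
  have hne : ∀ i j, i ≠ j → (v i)⁻¹ * v j ∉ D := fun i j hij hd => hij <| hnc i j <| by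
    simpa using hfill i _ hd
  have hcov : ∀ a : T, a ∉ D → ∃ i, (v i)⁻¹ * a ∈ D := by
    intro a ha
    by_contra hh
    push Not at hh
    let w : Fin 5 → T := ![1, v 0, v 1, v 2, a]
    let ψ : Fin 5 → T ⧸ D := fun i => (w i : T ⧸ D)
    have hψ : Function.Injective ψ := by
      intro i j e
      replace e : (w i)⁻¹ * w j ∈ D := QuotientGroup.eq.1 e
      have h01 := hne 0 1 (by decide); have h02 := hne 0 2 (by decide); have h12 := hne 1 2 (by decide)
      have h10 := hne 1 0 (by decide); have h20 := hne 2 0 (by decide); have h21 := hne 2 1 (by decide)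
      have a0 := hvD 0; have a1 := hvD 1; have a2 := hvD 2
      have b0 := hh 0; have b1 := hh 1; have b2 := hh 2
      have sw : ∀ p q : T, p⁻¹ * q ∈ D → q⁻¹ * p ∈ D := fun p q hpq => by simpa using inv_mem hpq
      fin_cases i <;> fin_cases j <;> first | rfl | (exfalso; simp [w] at e; first
        | exact a0 e | exact a1 e | exact a2 e | exact ha e
        | exact a0 (by simpa using inv_mem e) | exact a1 (by simpa using inv_mem e) | exact a2 (by simpa using inv_mem e)
        | exact ha (by simpa using inv_mem e)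
        | exact h01 e | exact h02 e | exact h12 e | exact h10 e | exact h20 e | exact h21 e
        | exact b0 e | exact b1 e | exact b2 e
        | exact b0 (sw _ _ e) | exact b1 (sw _ _ e) | exact b2 (sw _ _ e))
    have := Nat.card_le_card_of_injective ψ hψ
    rw [← Subgroup.index_eq_card, hidx4] at this
    simp at this
  have hsq : ∀ a : T, a ∉ D → a ^ 2 = 1 := by
    intro a ha
    obtain ⟨i, hi⟩ := hcov a ha
    obtain ⟨c, hc'⟩ := isConj_iff.1 (hfill i _ hi)
    rw [mul_inv_cancel_left] at hc'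
    rw [← hc', conj_pow, hv i]; group
  have hinvD : ∀ a : T, a ∉ D → ∀ d ∈ D, a * d * a⁻¹ = d⁻¹ := fun a ha d hd => by
    have h1 := hsq (a * d) fun e => ha (by simpa using mul_mem e (inv_mem hd))
    have h2 : a⁻¹ = a := inv_eq_of_mul_eq_one_right (by rw [← pow_two]; exact hsq a ha)
    rw [pow_two] at h1
    rw [h2]
    exact eq_inv_of_mul_eq_one_left (by rw [← h1]; group)
  have hall : ∀ a : T, a ^ 2 = 1 := by
    intro a
    by_cases ha : a ∈ D
    · have hp : v 0 * v 1 ∉ D := by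
        have e := hne 0 1 (by decide)
        rwa [inv_eq_of_mul_eq_one_right (show v 0 * v 0 = 1 by rw [← pow_two]; exact hv 0)] at e
      have h1 := hinvD _ hp a ha
      have h2 := hinvD _ (hvD 1) a ha
      have h3 := hinvD _ (hvD 0) (a⁻¹) (inv_mem ha)
      rw [show v 0 * v 1 * a * (v 0 * v 1)⁻¹ = v 0 * (v 1 * a * (v 1)⁻¹) * (v 0)⁻¹ by group, h2, h3, inv_inv] at h1
      rw [pow_two]
      nth_rewrite 1 [h1]
      exact inv_mul_cancel a
    · exact hsq a ha
  have : Subgroup.centralizer ({v 0} : Set T) = ⊤ := by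
    refine eq_top_iff.2 fun a _ => Subgroup.mem_centralizer_singleton_iff.2 ?_
    have i1 : ∀ b : T, b⁻¹ = b := fun b => inv_eq_of_mul_eq_one_right (by rw [← pow_two]; exact hall b)
    have := i1 (a * v 0)
    rwa [mul_inv_rev, i1, i1, eq_comm] at this
  have h4 := hc 0
  rw [this, Subgroup.card_top] at h4
  omega

/-- No three pairwise unrelated maximal subgroups have even order. -/
theorem Setup.no_three_even (S : Setup G) (h : SC3 x) {t : G} (ht2 : t ^ 2 = 1) (ht : t * x * t⁻¹ = x⁻¹)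
    (M : Fin 3 → Subgroup G) (hMm : ∀ i, Max x (M i)) (he : ∀ i, 2 ∣ Nat.card (M i))
    (hnr : ∀ i j, i ≠ j → ¬ Rel t (M i) (M j)) : False := by
  haveI := Fact.mk Nat.prime_two
  choose P hP using fun i => S.part h (hMm i) 2 (he i)
  have h4 : ∀ i, Nat.card (P i) = 4 ∧ 8 ∣ Nat.card G := fun i => by
    obtain ⟨j, hij⟩ := exists_ne i
    have := S.nonrel_two h ht2 ht (hMm i) (hMm j) (hP i) (hP j) (hnr i j hij.symm)
    exact ⟨this.1, this.2.2⟩
  let T : Sylow 2 G := default
  have hT8 : 4 < Nat.card (T : Subgroup G) := by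
    have h8 := T.pow_dvd_card_of_pow_dvd_card (n := 3) (h4 0).2
    have := Nat.le_of_dvd Nat.card_pos h8
    omega
  choose g hg using fun i => exists_conj_le (hP i).pgroup T
  set Q := fun i => (P i).map (MulAut.conj (g i)).toMonoidHom with hQ
  have hQ4 : ∀ i, Nat.card (Q i) = 4 := fun i => (map_conj_card _ _).trans (h4 i).1
  have hQm := fun i => (hMm i).conj (g i)
  have hQP : ∀ i, Part _ _ (Q i) 2 := fun i => (hP i).conj (g i)
  have hQT : ∀ i, Q i ≤ (T : Subgroup G) := hg
  obtain ⟨z₀, hz₀T, hz₀1, hz₀c⟩ := exists_central T.2 fun e => by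
    rw [e, Subgroup.card_bot] at hT8; omega
  have hz₀Q : ∀ i, z₀ ∈ Q i := fun i => (hQP i).four_cent (h.conj _) (hQm i) (hQ4 i) (two_elt T.2 hz₀T)
    fun v hv => (hz₀c v (hQT i hv)).symm
  have hex : ∀ i, ∃ v ∈ Q i, v ≠ 1 ∧ v ≠ z₀ := fun i => by
    by_contra hh
    push Not at hh
    have : Nat.card (Q i) ≤ Nat.card Bool := Nat.card_le_card_of_injective
      (fun v : Q i => @decide ((v : G) = 1) (Classical.propDecidable _)) fun a b e => by
        have e' : (a : G) = 1 ↔ (b : G) = 1 := by simpa using e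
        by_cases ha : (a : G) = 1
        · exact Subtype.ext (ha.trans (e'.1 ha).symm)
        · exact Subtype.ext ((hh _ a.2 ha).trans (hh _ b.2 (fun eb => ha (e'.2 eb))).symm)
    rw [hQ4 i] at this
    simp at this
  choose v hvQ hv1 hvz using hex
  refine two_classes (T := (T : Subgroup G)) T.2 hT8 (fun i => ⟨v i, hQT i (hvQ i)⟩) (fun i => ?_) (fun i => ?_) ?_
  · exact Subtype.ext (((hQP i).four_sq (h.conj _) (hQm i) (hQ4 i)).2 _ (hvQ i))
  · rw [← hQ4 i, ← Nat.card_congr (Subgroup.subgroupOfEquivOfLe (hQT i)).toEquiv]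
    congr 2
    ext a
    rw [Subgroup.mem_centralizer_singleton_iff, Subgroup.mem_subgroupOf]
    constructor
    · intro ha
      have ha' : (a : G) * v i = v i * a := congrArg Subtype.val ha
      refine (hQP i).four_cent (h.conj _) (hQm i) (hQ4 i) (two_elt T.2 a.2) ?_
      have hK : Q i ⊓ Subgroup.centralizer ({(a : G)} : Set G) = Q i := four_gen (hQ4 i) inf_le_left
        (a := z₀) (b := v i) ⟨hz₀Q i, Subgroup.mem_centralizer_singleton_iff.2 (hz₀c a a.2).eq⟩
        ⟨hvQ i, Subgroup.mem_centralizer_singleton_iff.2 ha'.symm⟩ hz₀1 (hv1 i) (Ne.symm (hvz i))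
      intro w hw
      rw [← hK] at hw
      exact Subgroup.mem_centralizer_singleton_iff.1 (Subgroup.mem_inf.1 hw).2
    · intro ha
      exact Subtype.ext (((hQP i).four_sq (h.conj _) (hQm i) (hQ4 i)).1 _ ha _ (hvQ i)).eq
  · intro i j hc
    by_contra hij
    obtain ⟨c, hc⟩ := isConj_iff.1 hc
    have hc' : (c : G) * v i * (c : G)⁻¹ = v j := congrArg Subtype.val hc
    set K := (Q i).map (MulAut.conj (c : G)).toMonoidHom
    have hKe : Q j ⊓ K = Q j := four_gen (hQ4 j) inf_le_left (a := z₀) (b := v j)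
      ⟨hz₀Q j, z₀, hz₀Q i, by simp [← (hz₀c c c.2).eq]⟩ ⟨hvQ j, v i, hvQ i, hc'⟩ hz₀1 (hv1 j) (Ne.symm (hvz j))
    have he' : K = Q j := (Subgroup.eq_of_le_of_card_ge (inf_eq_left.1 hKe)
      (by rw [map_conj_card, hQ4, hQ4])).symm
    refine hnr i j hij (rel_of_part h ht (hMm i) (hMm j) (hP i) (hP j) (g := (g j)⁻¹ * ((c : G) * g i)) ?_)
    rw [← map_conj_mul, ← map_conj_mul]
    show K.map _ = _
    rw [he']
    show ((P j).map _).map _ = _
    rw [map_conj_mul, inv_mul_cancel]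
    ext k; simp [mem_map_conj]

end CfsgLib.SelfCentThree
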