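import Mathlib
import Cfsg.Agent.Lib.SelfCentThree.Two
import Cfsg.Agent.Lib.SelfCentThree.Count
import Cfsg.Agent.S0494
import Cfsg.Agent.S0495
import Cfsg.Agent.S0496

set_option autoImplicit false

/-!
The simple case.
-/

namespace CfsgLib.SelfCentThree

universe u

variable {G : Type u} [Group G] [Finite G] {x : G}

theorem prod_dvd {ι : Type*} (s : Finset ι) (f : ι → ℕ) (N : ℕ)
    (hc : ∀ i ∈ s, ∀ j ∈ s, i ≠ j → Nat.Coprime (f i) (f j)) (hd : ∀ i ∈ s, f i ∣ N) : ∏ i ∈ s, f i ∣ N := by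
  classical
  induction s using Finset.induction_on with
  | empty => simp
  | insert a s ha ih =>
    rw [Finset.prod_insert ha]
    refine Nat.Coprime.mul_dvd_of_dvd_of_dvd (Nat.Coprime.prod_right fun i hi => hc a (Finset.mem_insert_self a s) i
      (Finset.mem_insert_of_mem hi) (fun e => ha (e ▸ hi))) (hd a (Finset.mem_insert_self a s))
      (ih (fun i hi j hj => hc i (Finset.mem_insert_of_mem hi) j (Finset.mem_insert_of_mem hj))
        fun i hi => hd i (Finset.mem_insert_of_mem hi))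

theorem sum_le_prod {ι : Type*} (s : Finset ι) (f : ι → ℕ) (hf : ∀ i ∈ s, 2 ≤ f i) :
    ∑ i ∈ s, f i ≤ ∏ i ∈ s, f i := by
  classical
  induction s using Finset.induction_on with
  | empty => simp
  | insert a s ha ih =>
    rw [Finset.prod_insert ha, Finset.sum_insert ha]
    have h1 := ih fun i hi => hf i (Finset.mem_insert_of_mem hi)
    have h2 := hf a (Finset.mem_insert_self a s)
    rcases s.eq_empty_or_nonempty with e | ⟨b, hb⟩
    · simp [e]
    · have h3 : 2 ≤ ∏ i ∈ s, f i := le_trans ((hf b (Finset.mem_insert_of_mem hb)))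
        (Finset.single_le_prod' (fun i hi => le_trans (by norm_num) (hf i (Finset.mem_insert_of_mem hi))) hb)
      nlinarith

theorem pair_large {a b : ℕ} (ha : 4 ≤ a ∧ a % 3 = 1) (hb : 4 ≤ b ∧ b % 3 = 1) (hc : Nat.Coprime a b) :
    28 ≤ a * b := by
  rcases Nat.mod_two_eq_zero_or_one a with e | e
  · rcases Nat.mod_two_eq_zero_or_one b with e' | e'
    · exfalso
      have := Nat.dvd_gcd (Nat.dvd_of_mod_eq_zero e) (Nat.dvd_of_mod_eq_zero e')
      rw [hc.gcd_eq_one] at this
      norm_num at this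
    · have : 7 ≤ b := by omega
      nlinarith
  · have : 7 ≤ a := by omega
    nlinarith

theorem big_prod {ι : Type*} (s : Finset ι) (f : ι → ℕ) (hf : ∀ i ∈ s, 4 ≤ f i ∧ f i % 3 = 1)
    (hc : ∀ i ∈ s, ∀ j ∈ s, i ≠ j → Nat.Coprime (f i) (f j)) :
    3 ≤ s.card → 6 * ∑ i ∈ s, f i < ∏ i ∈ s, f i ∧ 8 ≤ ∏ i ∈ s, f i := by
  classical
  induction s using Finset.induction_on with
  | empty => simp
  | insert a s ha ih =>
    intro h3
    rw [Finset.card_insert_of_notMem ha] at h3
    rw [Finset.prod_insert ha, Finset.sum_insert ha]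
    have hfa := hf a (Finset.mem_insert_self a s)
    by_cases hs : 3 ≤ s.card
    · obtain ⟨h1, h2⟩ := ih (fun i hi => hf i (Finset.mem_insert_of_mem hi))
        (fun i hi j hj => hc i (Finset.mem_insert_of_mem hi) j (Finset.mem_insert_of_mem hj)) hs
      constructor
      · nlinarith [hfa.1]
      · nlinarith [hfa.1]
    · obtain ⟨b, c, hbc, rfl⟩ := Finset.card_eq_two.1 (show s.card = 2 by omega)
      rw [Finset.prod_pair hbc, Finset.sum_pair hbc]
      have hfb := hf b (by simp)
      have hfc := hf c (by simp)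
      have e1 := pair_large hfb hfc (hc b (by simp) c (by simp) hbc)
      have e2 := pair_large hfa hfb (hc a (by simp) b (by simp) fun e => ha (by simp [e]))
      have e3 := pair_large hfa hfc (hc a (by simp) c (by simp) fun e => ha (by simp [e]))
      constructor
      · nlinarith
      · nlinarith

/-- The case of two coprime orders. -/
theorem numeric_pair {N a b : ℕ} (hN0 : 0 < N) (ha : 4 ≤ a ∧ a % 3 = 1) (hb : 4 ≤ b ∧ b % 3 = 1)
    (hab : Nat.Coprime a b) (hle : a ≤ b) (hd : 3 * (a * b) ∣ N) (hN : N < 18 * (a + b))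
    (hidx : N < 18 * b → N ≤ 120) : N < 882 ∧ (N < 660 ∨ 7 ∣ N) := by
  obtain ⟨j, hj⟩ := hd
  have hj1 : 1 ≤ j := by
    by_contra h0
    rw [show j = 0 by omega, mul_zero] at hj
    omega
  have hne : a ≠ b := fun e => by
    subst e
    rw [Nat.coprime_self] at hab
    omega
  rcases (show a = 4 ∨ a = 7 ∨ 10 ≤ a by omega) with e | e | e
  · subst e
    rcases (show j = 1 ∨ j = 2 ∨ 3 ≤ j by omega) with r | r | r
    · subst r
      have := hidx (by omega)
      omega
    · subst r; omega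
    · exfalso; nlinarith
  · subst e
    have hb42 : b < 42 := by nlinarith
    exact ⟨by omega, Or.inr ⟨3 * (b * j), by rw [hj]; ring⟩⟩
  · have h1 : 3 * (a * b) ≤ N := hj ▸ Nat.le_mul_of_pos_right _ hj1
    have h2 : a < 12 := by nlinarith
    have h3 : b ≤ 16 := by nlinarith
    omega

/-- The case of two orders divisible by four. -/
theorem numeric_two {N a b P T : ℕ} (hN0 : 0 < N) (ha : 0 < a) (hb : 0 < b) (hd : 24 * (a * b * P) ∣ N)
    (hN : N < 36 * (a + b) + 18 * T) (hTP : (T = 0 ∧ P = 1) ∨ (7 ≤ P ∧ T ≤ P))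
    (hidx : N < 18 * (4 * a) ∨ N < 18 * (4 * b) → N ≤ 120) : N < 882 ∧ (N < 660 ∨ 7 ∣ N) := by
  rcases hTP with ⟨rfl, rfl⟩ | ⟨hP, hTP⟩
  · have := hidx (by omega)
    omega
  · have h1 := Nat.le_of_dvd hN0 hd
    have h2 : a * b = 1 := by
      have h3 : a + b ≤ a * b + 1 := by nlinarith
      by_contra hne
      have : 2 ≤ a * b := by
        have := Nat.mul_pos ha hb
        omega
      nlinarith
    have e1 : a = 1 := Nat.eq_one_of_mul_eq_one_right h2
    have e2 : b = 1 := Nat.eq_one_of_mul_eq_one_left h2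
    subst e1 e2
    omega

theorem Setup.mem_max (h : SC3 x) {y : G} (hy : IsConj x y) (hy' : IsConj x (y⁻¹ * x)) :
    y * x = 1 ∨ ∃ M, Max x M ∧ y * x ∈ M := by
  have cube : ∀ w : G, IsConj x w → w * w * w = 1 := fun w hw => by
    obtain ⟨c, rfl⟩ := isConj_iff.1 hw
    rw [mul_assoc, ← pow_three, conj_pow, h.pow_three]; group
  have hy3 := cube y hy
  have hw3 := cube _ hy'
  set m := y * x with hm
  set b := x * m * x⁻¹ with hb
  set c := x⁻¹ * m * x with hc
  have hx3 : x * x * x = 1 := by rw [mul_assoc, ← pow_three, h.pow_three]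
  have i3 : x⁻¹ = x * x := (eq_inv_of_mul_eq_one_left hx3).symm
  have e1 : m * c * b = 1 := by
    rw [hm, hb, hc, hm]
    calc y * x * (x⁻¹ * (y * x) * x) * (x * (y * x) * x⁻¹) = y * y * (x * x * x) * y := by group
      _ = 1 := by rw [hx3, mul_one, hy3]
  have e2 : c * b * m = 1 := by
    calc c * b * m = m⁻¹ * (m * c * b) * m := by group
      _ = 1 := by rw [e1]; group
  have e3 : b * c * m = 1 := by
    rw [hm, hb, hc, hm]
    have h1 : (y⁻¹ * x)⁻¹ * (y⁻¹ * x)⁻¹ * (y⁻¹ * x)⁻¹ = 1 := by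
      rw [← mul_inv_rev, ← mul_inv_rev, ← mul_assoc, hw3, inv_one]
    calc x * (y * x) * x⁻¹ * (x⁻¹ * (y * x) * x) * (y * x)
        = x * y * (x⁻¹ * y) * (x * x * y) * x := by group
      _ = x * (y * (x⁻¹ * y) * (x⁻¹ * y)) * x := by rw [← i3]; group
      _ = x * (x * ((y⁻¹ * x)⁻¹ * (y⁻¹ * x)⁻¹ * (y⁻¹ * x)⁻¹)) * x := by group
      _ = 1 := by rw [h1, mul_one, hx3]
  have hbc : Commute c b := by
    have := e2.trans e3.symm
    exact mul_right_cancel this
  have hconj : ∀ u v : G, Commute u v → Commute (x * u * x⁻¹) (x * v * x⁻¹) := fun u v e => by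
    have := e.map (MulAut.conj x).toMonoidHom
    simpa using this
  have hxc : x * c * x⁻¹ = m := by rw [hc]; group
  have hxb : x * b * x⁻¹ = c := by
    rw [hb, hc, show x * (x * m * x⁻¹) * x⁻¹ = x * x * m * (x * x)⁻¹ by group, ← i3, inv_inv]
  have hcm : Commute c m := by
    have := hconj b c hbc.symm
    rwa [hxb, hxc] at this
  have hmb : Commute m b := by
    have := hconj c m hcm
    rwa [hxc, ← hb] at this
  have hS : ∀ u ∈ ({m, b, c} : Set G), ∀ v ∈ ({m, b, c} : Set G), Commute u v := by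
    rintro u (rfl | rfl | rfl) v (rfl | rfl | rfl)
    exacts [Commute.refl _, hmb, hcm.symm, hmb.symm, Commute.refl _, hbc.symm, hcm, hbc, Commute.refl _]
  set K := Subgroup.closure ({m, b, c} : Set G) with hK
  haveI : IsMulCommutative K := Subgroup.isMulCommutative_closure fun u hu v hv => (hS u hu v hv).eq
  have hxK : Inv' x K := by
    refine inv'_of_le fun k hk => ?_
    induction hk using Subgroup.closure_induction with
    | mem u hu =>
      rcases hu with rfl | rfl | rfl
      · exact Subgroup.subset_closure (by simp [hb])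
      · rw [hxb]; exact Subgroup.subset_closure (by simp)
      · rw [hxc]; exact Subgroup.subset_closure (by simp)
    | one => simp
    | mul u v _ _ ihu ihv => rw [show x * (u * v) * x⁻¹ = (x * u * x⁻¹) * (x * v * x⁻¹) by group]; exact mul_mem ihu ihv
    | inv u _ ihu => rw [show x * u⁻¹ * x⁻¹ = (x * u * x⁻¹)⁻¹ by group]; exact inv_mem ihu
  have hmK : m ∈ K := Subgroup.subset_closure (by simp)
  by_cases hm1 : m = 1
  · exact Or.inl hm1
  refine Or.inr ?_
  have hK3 : Three' K := by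
    refine three'_of_no_elt fun k hk hk3 => ?_
    have hsk := h.of_order hk3
    have hcomm : ∀ u ∈ K, Commute k u := fun u hu => congrArg Subtype.val (mul_comm' (⟨k, hk⟩ : K) ⟨u, hu⟩)
    have hk1 := (hxK k).1 hk
    rcases hsk.mem_cases (hsk.cent _ (hcomm _ hk1)) with e | e | e
    · exact hsk.ne_one (conj_eq_one_iff.1 e)
    · have hkx : Commute k x := (mul_inv_eq_iff_eq_mul.1 e).symm
      rcases h.mem_cases (h.cent k hkx.symm) with e' | e' | e'
      · exact hsk.ne_one e'
      all_goals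
        have hmx : m ∈ Subgroup.zpowers x := h.cent m (by simpa [e'] using hcomm m hmK)
        have hyx : y ∈ Subgroup.zpowers x := by
          have := mul_mem hmx (inv_mem (Subgroup.mem_zpowers x))
          rwa [hm, mul_inv_cancel_right] at this
        rcases h.mem_cases hyx with r | r | r
        · obtain ⟨d, hd⟩ := isConj_iff.1 hy
          exact h.ne_one (conj_eq_one_iff.1 (hd.trans r))
        · obtain ⟨d, hd⟩ := isConj_iff.1 hy'
          rw [r, inv_mul_cancel] at hd
          exact h.ne_one (conj_eq_one_iff.1 hd)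
        · exact hm1 (by rw [hm, r, inv_mul_cancel])
    · have h2 : x * (x * (x * k * x⁻¹) * x⁻¹) * x⁻¹ = k⁻¹ := by
        rw [e, show x * k⁻¹ * x⁻¹ = (x * k * x⁻¹)⁻¹ by group, e, inv_inv, e]
      rw [show x * (x * (x * k * x⁻¹) * x⁻¹) * x⁻¹ = (x * x * x) * k * (x * x * x)⁻¹ by group, hx3] at h2
      have h3 : k = k⁻¹ := by simpa using h2
      have h4 : k ^ 2 = 1 := by rw [pow_two]; nth_rewrite 1 [h3]; exact inv_mul_cancel k
      have := orderOf_dvd_of_pow_eq_one h4
      rw [hk3] at this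
      norm_num at this
  obtain ⟨M, hM, hle⟩ := exists_max hK3 hxK fun e => hm1 (by rw [e] at hmK; exact hmK)
  exact ⟨M, hM, hle hmK⟩

theorem Max.card_facts (h : SC3 x) {M : Subgroup G} (hM : Max x M) :
    4 ≤ Nat.card M ∧ Nat.card M % 3 = 1 := by
  have h1 := h.card_mod_three hM.three' hM.inv
  have h2 : Nat.card M ≠ 1 := fun e => hM.ne_bot (Subgroup.card_eq_one.1 e)
  omega

theorem Max.three_mul_dvd (h : SC3 x) {M : Subgroup G} (hM : Max x M) :
    3 * Nat.card M ∣ Nat.card (Subgroup.normalizer (M : Set G)) :=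
  Nat.Coprime.mul_dvd_of_dvd_of_dvd ((Nat.Prime.coprime_iff_not_dvd Nat.prime_three).2 hM.three')
    (by rw [← h.ord, ← Subgroup.orderOf_mk x (inv'_iff_mem_normalizer.1 hM.inv)]; exact orderOf_dvd_natCard _)
    (Subgroup.card_dvd_of_le Subgroup.le_normalizer)

theorem Setup.small_index (S : Setup G) (h : SC3 x) {M : Subgroup G} (hM : Max x M)
    (hlt : Nat.card G < 18 * Nat.card M) : Nat.card G ≤ 120 := by
  set H := Subgroup.normalizer (M : Set G)
  have hne := S.ne_top h hM.three' hM.ne_bot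
  have h1 := H.card_mul_index
  have h2 := Nat.le_of_dvd Nat.card_pos (hM.three_mul_dvd h)
  have hk : H.index < 6 := by
    by_contra hk
    nlinarith
  haveI := S.simple
  have hker : H.normalCore = ⊥ := (H.normalCore_normal).eq_bot_or_eq_top.resolve_right fun e =>
    hne (top_le_iff.1 (e ▸ H.normalCore_le))
  have hinj : Function.Injective (MulAction.toPermHom G (G ⧸ H)) := by
    rw [← MonoidHom.ker_eq_bot_iff, ← hker, Subgroup.normalCore_eq_ker]
  have := Subgroup.card_dvd_of_injective _ hinj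
  rw [Nat.card_perm, ← Subgroup.index_eq_card] at this
  exact (Nat.le_of_dvd (Nat.factorial_pos _) this).trans (le_trans (Nat.factorial_le (show H.index ≤ 5 by omega)) (le_refl 120))

theorem Setup.common_prime (S : Setup G) (h : SC3 x) {t : G} (ht2 : t ^ 2 = 1) (ht : t * x * t⁻¹ = x⁻¹)
    {M L : Subgroup G} (hMm : Max x M) (hLm : Max x L) (hnr : ¬ Rel t M L) {q : ℕ} (hq : q.Prime)
    (hqM : q ∣ Nat.card M) (hqL : q ∣ Nat.card L) : q = 2 := by
  by_contra hq2
  haveI := Fact.mk hq
  obtain ⟨P, hP⟩ := S.part h hMm q hqM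
  obtain ⟨Q, hQ⟩ := S.part h hLm q hqL
  obtain ⟨T, hPT⟩ := hP.pgroup.exists_le_sylow
  obtain ⟨T', hQT'⟩ := hQ.pgroup.exists_le_sylow
  obtain ⟨g, hg⟩ := MulAction.exists_smul_eq G T' T
  have hQT : Q.map (MulAut.conj g).toMonoidHom ≤ (T : Subgroup G) := by
    rw [← hg]
    rintro _ ⟨k, hk, rfl⟩
    exact ⟨k, hQT' hk, rfl⟩
  have e1 := hP.sylow_odd hMm hq2 T.2 hPT
  have e2 := (hQ.conj g).sylow_odd (hLm.conj g) hq2 T.2 hQT
  exact hnr ((rel_of_part h ht hLm hMm hQ hP (g := g) (e2.symm.trans e1)).symm ht2)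

theorem Setup.bound (S : Setup G) (h : SC3 x) :
    Nat.card G < 882 ∧ (Nat.card G < 660 ∨ 7 ∣ Nat.card G) := by
  classical
  obtain ⟨t, ht2, ht⟩ := exists_inverting S h
  obtain ⟨R, hR⟩ := Set.Finite.exists_maximal
    (s := {R : Finset (Subgroup G) | (∀ M ∈ R, Max x M) ∧ ∀ M ∈ R, ∀ L ∈ R, M ≠ L → ¬ Rel t M L})
    (Set.toFinite _) ⟨∅, by simp, by simp⟩
  obtain ⟨⟨hmax, hnr⟩, hRmax⟩ := hR
  have hrep : ∀ M, Max x M → ∃ L ∈ R, Rel t L M := fun M hM => by
    by_contra hh
    push Not at hh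
    have : insert M R ≤ R := hRmax ⟨fun L hL => by
        rcases Finset.mem_insert.1 hL with rfl | hL
        exacts [hM, hmax L hL], fun L hL K hK hne => by
        rcases Finset.mem_insert.1 hL with eL | hL <;> rcases Finset.mem_insert.1 hK with eK | hK
        · exact absurd (eL.trans eK.symm) hne
        · exact fun e => hh K hK (eL ▸ e.symm ht2)
        · exact eK ▸ hh L hL
        · exact hnr L hL K hK hne⟩ (Finset.subset_insert M R)
    exact hh M (this (Finset.mem_insert_self M R)) (Or.inl rfl)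
  set w : Subgroup G → ℕ := fun M =>
    if M.map (MulAut.conj t).toMonoidHom = M then Nat.card M - 1 else 2 * (Nat.card M - 1) with hw
  haveI := Fintype.ofFinite G
  let piece : Subgroup G → Finset G := fun M => Finset.univ.filter fun k => k ≠ 1 ∧
    (k ∈ M ∨ k ∈ M.map (MulAut.conj t).toMonoidHom)
  have hone : ∀ M : Subgroup G, (Finset.univ.filter fun k => k ≠ 1 ∧ k ∈ M).card + 1 = Nat.card M := fun M => by
    rw [← Finset.card_insert_of_notMem (a := (1 : G)) (by simp), Nat.card_eq_fintype_card,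
      ← Fintype.card_coe]
    refine Fintype.card_congr (Equiv.subtypeEquivRight fun k => ?_)
    by_cases hk : k = 1 <;> simp [hk]
  have hpiece : ∀ M : Subgroup G, (piece M).card ≤ w M := fun M => by
    have h1 := hone M
    rw [hw]; simp only
    split_ifs with hfix
    · have : piece M = Finset.univ.filter fun k => k ≠ 1 ∧ k ∈ M := by simp only [piece, hfix, or_self]
      rw [this]; omega
    · have h2 := hone (M.map (MulAut.conj t).toMonoidHom)
      rw [map_conj_card] at h2
      have : piece M ⊆ (Finset.univ.filter fun k => k ≠ 1 ∧ k ∈ M) ∪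
          (Finset.univ.filter fun k => k ≠ 1 ∧ k ∈ M.map (MulAut.conj t).toMonoidHom) := by
        intro k hk; simp [piece] at hk ⊢; tauto
      have := (Finset.card_le_card this).trans (Finset.card_union_le _ _)
      omega
  have hcount : factCount x ≤ 1 + ∑ M ∈ R, w M := by
    have h1 : factCount x ≤ Nat.card (insert (1 : G) (R.biUnion piece) : Finset G) := by
      refine Nat.card_le_card_of_injective (fun y => ⟨y.1 * x, ?_⟩) fun a b e =>
        Subtype.ext (mul_right_cancel (congrArg Subtype.val e))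
      rcases Setup.mem_max h y.2.1 y.2.2 with e | ⟨M, hM, hyM⟩
      · simp [e]
      · by_cases h1 : y.1 * x = 1
        · simp [h1]
        obtain ⟨L, hL, hrel⟩ := hrep M hM
        refine Finset.mem_insert_of_mem (Finset.mem_biUnion.2 ⟨L, hL, Finset.mem_filter.2 ⟨Finset.mem_univ _, h1, ?_⟩⟩)
        rcases hrel with rfl | rfl
        exacts [Or.inl hyM, Or.inr hyM]
    rw [Nat.card_eq_fintype_card, Fintype.card_coe] at h1
    refine h1.trans ((Finset.card_insert_le _ _).trans ?_)
    rw [add_comm]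
    exact Nat.add_le_add_left (Finset.card_biUnion_le.trans (Finset.sum_le_sum fun M _ => hpiece M)) 1
  have hr : IsConj x x⁻¹ := isConj_iff.2 ⟨t, ht⟩
  have hlt : Nat.card G < 9 + 9 * ∑ M ∈ R, w M := by
    have := card_lt_nine_factCount h hr
    omega
  have hw2 : ∀ M ∈ R, w M + 2 ≤ 2 * Nat.card M := fun M hM => by
    have := (hmax M hM).card_facts h
    rw [hw]; simp only
    split_ifs <;> omega
  have hdvd : ∀ M ∈ R, Nat.card M ∣ Nat.card G := fun M _ => M.card_subgroup_dvd_card
  have h3G : 3 ∣ Nat.card G := h.ord ▸ orderOf_dvd_natCard x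
  have hidx : ∀ M ∈ R, Nat.card G < 18 * Nat.card M → Nat.card G ≤ 120 := fun M hM =>
    S.small_index h (hmax M hM)
  have hco3 : ∀ M ∈ R, Nat.Coprime 3 (Nat.card M) := fun M hM =>
    (Nat.Prime.coprime_iff_not_dvd Nat.prime_three).2 (hmax M hM).three'
  by_cases hev : ∃ A ∈ R, ∃ B ∈ R, A ≠ B ∧ 2 ∣ Nat.card A ∧ 2 ∣ Nat.card B
  · obtain ⟨A, hA, B, hB, hAB, hA2, hB2⟩ := hev
    haveI := Fact.mk Nat.prime_two
    obtain ⟨P, hP⟩ := S.part h (hmax A hA) 2 hA2
    obtain ⟨Q, hQ⟩ := S.part h (hmax B hB) 2 hB2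
    have four : ∀ {M L P Q : Subgroup G}, Max x M → Max x L → Part x M P 2 → Part x L Q 2 → ¬ Rel t M L →
        ∃ a, Nat.card M = 4 * a ∧ a % 2 = 1 ∧ w M + 1 = Nat.card M ∧ 8 ∣ Nat.card G := by
      intro M L P Q hM hL hP hQ hn
      obtain ⟨h4, hf, h8⟩ := S.nonrel_two h ht2 ht hM hL hP hQ hn
      obtain ⟨a, ha⟩ := h4 ▸ Subgroup.card_dvd_of_le hP.le
      refine ⟨a, ha, ?_, ?_, h8⟩
      · by_contra hodd
        have h23 : 2 ^ 3 ∣ Nat.card M := ⟨a / 2, by rw [ha]; omega⟩
        have := (Nat.prime_two.pow_dvd_iff_le_factorization Nat.card_pos.ne').1 h23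
        have hc := hP.card
        rw [h4] at hc
        have : (Nat.card M).factorization 2 = 2 := Nat.pow_right_injective (le_refl 2) hc.symm
        omega
      · have := (hM.card_facts h).1
        rw [hw]; simp only
        rw [if_pos hf]; omega
    obtain ⟨a, ha, ha2, hwA, h8⟩ := four (hmax A hA) (hmax B hB) hP hQ (hnr A hA B hB hAB)
    obtain ⟨b, hb, hb2, hwB, -⟩ := four (hmax B hB) (hmax A hA) hQ hP (hnr B hB A hA hAB.symm)
    set O := (R.erase A).erase B with hO
    have hBA : B ∈ R.erase A := Finset.mem_erase.2 ⟨hAB.symm, hB⟩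
    have hsum : ∑ M ∈ R, w M = w A + (w B + ∑ M ∈ O, w M) := by
      rw [← Finset.add_sum_erase R w hA, ← Finset.add_sum_erase _ w hBA]
    have hOm : ∀ M ∈ O, M ∈ R ∧ M ≠ A ∧ M ≠ B := fun M hM => by
      simp [hO] at hM
      exact ⟨hM.2.2, hM.2.1, hM.1⟩
    have hodd : ∀ M ∈ O, ¬ 2 ∣ Nat.card M := fun M hM hM2 => by
      obtain ⟨hMR, hMA, hMB⟩ := hOm M hM
      refine S.no_three_even h ht2 ht ![A, B, M] ?_ ?_ ?_
      · intro i; fin_cases i
        exacts [hmax A hA, hmax B hB, hmax M hMR]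
      · intro i; fin_cases i
        exacts [hA2, hB2, hM2]
      · intro i j hij
        fin_cases i <;> fin_cases j <;> first | exact absurd rfl hij | skip
        exacts [hnr A hA B hB hAB, hnr A hA M hMR hMA.symm, hnr B hB A hA hAB.symm, hnr B hB M hMR hMB.symm,
          hnr M hMR A hA hMA, hnr M hMR B hB hMB]
    have cop : ∀ {M L : Subgroup G}, M ∈ R → L ∈ R → M ≠ L → ∀ {m l : ℕ}, m ∣ Nat.card M → l ∣ Nat.card L →
        ¬ 2 ∣ m → Nat.Coprime m l := fun hM hL hne m l hm hl h2 =>
      Nat.coprime_of_dvd fun q hq hqm hql => h2 (S.common_prime h ht2 ht (hmax _ hM) (hmax _ hL)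
        (hnr _ hM _ hL hne) hq (hqm.trans hm) (hql.trans hl) ▸ hqm)
    have haA : a ∣ Nat.card A := ⟨4, by rw [ha]; ring⟩
    have hbB : b ∣ Nat.card B := ⟨4, by rw [hb]; ring⟩
    have hprodO : ∏ M ∈ O, Nat.card M ∣ Nat.card G := prod_dvd O _ _ (fun M hM L hL hne =>
      cop (hOm M hM).1 (hOm L hL).1 hne dvd_rfl dvd_rfl (hodd M hM)) fun M hM => hdvd M (hOm M hM).1
    have c1 : Nat.Coprime a b := cop hA hB hAB haA hbB (by omega)
    have c2 : Nat.Coprime (a * b) (∏ M ∈ O, Nat.card M) := Nat.Coprime.prod_right fun M hM =>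
      Nat.Coprime.mul_left (cop hA (hOm M hM).1 (hOm M hM).2.1.symm haA dvd_rfl (by omega))
        (cop hB (hOm M hM).1 (hOm M hM).2.2.symm hbB dvd_rfl (by omega))
    have c24 : ∀ {n : ℕ}, ¬ 2 ∣ n → Nat.Coprime 3 n → Nat.Coprime 24 n := fun h2 h3 =>
      Nat.Coprime.mul_left (Nat.Coprime.pow_left 3 ((Nat.Prime.coprime_iff_not_dvd Nat.prime_two).2 h2)) h3
    have hd : 24 * (a * b * ∏ M ∈ O, Nat.card M) ∣ Nat.card G := by
      refine Nat.Coprime.mul_dvd_of_dvd_of_dvd (Nat.Coprime.mul_right (Nat.Coprime.mul_right ?_ ?_)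
        (Nat.Coprime.prod_right fun M hM => c24 (hodd M hM) (hco3 M (hOm M hM).1))) ?_
        (c2.mul_dvd_of_dvd_of_dvd (c1.mul_dvd_of_dvd_of_dvd (haA.trans (hdvd A hA)) (hbB.trans (hdvd B hB))) hprodO)
      · exact c24 (by omega) ((hco3 A hA).coprime_dvd_right haA)
      · exact c24 (by omega) ((hco3 B hB).coprime_dvd_right hbB)
      · exact Nat.Coprime.mul_dvd_of_dvd_of_dvd (show Nat.Coprime 8 3 by norm_num) h8 h3G
    have hOw : ∑ M ∈ O, w M ≤ 2 * ∑ M ∈ O, Nat.card M := by
      rw [Finset.mul_sum]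
      exact Finset.sum_le_sum fun M hM => by have := hw2 M (hOm M hM).1; omega
    refine numeric_two (T := ∑ M ∈ O, Nat.card M) Nat.card_pos (by omega) (by omega) hd ?_ ?_ ?_
    · rw [hsum] at hlt; omega
    · rcases O.eq_empty_or_nonempty with e | ⟨M, hM⟩
      · exact Or.inl (by simp [e])
      · refine Or.inr ⟨?_, sum_le_prod O _ fun L hL => le_trans (by norm_num) ((hmax L (hOm L hL).1).card_facts h).1⟩
        have h7 := (hmax M (hOm M hM).1).card_facts h
        have h2 := hodd M hM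
        exact le_trans (show 7 ≤ Nat.card M by omega) (Finset.single_le_prod' (f := fun L : Subgroup G => Nat.card L)
          (fun L hL => Nat.card_pos) hM)
    · rintro (e | e)
      · exact hidx A hA (ha ▸ e)
      · exact hidx B hB (hb ▸ e)
  · push Not at hev
    have hcop : ∀ M ∈ R, ∀ L ∈ R, M ≠ L → Nat.Coprime (Nat.card M) (Nat.card L) := fun M hM L hL hne =>
      Nat.coprime_of_dvd fun q hq hqM hqL => by
        have := S.common_prime h ht2 ht (hmax M hM) (hmax L hL) (hnr M hM L hL hne) hq hqM hqL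
        subst this
        exact hev M hM L hL hne hqM hqL
    have hd : 3 * ∏ M ∈ R, Nat.card M ∣ Nat.card G :=
      Nat.Coprime.mul_dvd_of_dvd_of_dvd (Nat.Coprime.prod_right hco3) h3G (prod_dvd R _ _ hcop hdvd)
    have hS : ∑ M ∈ R, w M + 2 * R.card ≤ 2 * ∑ M ∈ R, Nat.card M := by
      rw [Finset.mul_sum, mul_comm 2 R.card, ← smul_eq_mul, ← Finset.sum_const, ← Finset.sum_add_distrib]
      exact Finset.sum_le_sum hw2
    have hpos := Nat.card_pos (α := G)
    rcases (show R.card = 0 ∨ R.card = 1 ∨ R.card = 2 ∨ 3 ≤ R.card by omega) with e | e | e | e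
    · rw [Finset.card_eq_zero.1 e, Finset.sum_empty] at hlt
      omega
    · obtain ⟨M, rfl⟩ := Finset.card_eq_one.1 e
      simp only [Finset.sum_singleton, Finset.card_singleton] at hS hlt
      have := hidx M (by simp) (by omega)
      omega
    · obtain ⟨M, L, hne, rfl⟩ := Finset.card_eq_two.1 e
      rw [Finset.prod_pair hne] at hd
      rw [Finset.sum_pair hne] at hlt
      rw [Finset.sum_pair hne, Finset.sum_pair hne, e] at hS
      have fM := (hmax M (by simp)).card_facts h
      have fL := (hmax L (by simp)).card_facts h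
      have hc := hcop M (by simp) L (by simp) hne
      rcases le_total (Nat.card M) (Nat.card L) with hle | hle
      · exact numeric_pair hpos fM fL hc hle hd (by omega) (hidx L (by simp))
      · exact numeric_pair hpos fL fM hc.symm hle (by rwa [mul_comm (Nat.card L)]) (by omega) (hidx M (by simp))
    · exfalso
      obtain ⟨h1, -⟩ := big_prod R (fun M => Nat.card M) (fun M hM => (hmax M hM).card_facts h) hcop e
      have h2 := Nat.le_of_dvd hpos hd
      omega

/-- The simple groups. -/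
theorem Setup.classify (S : Setup G) (h : SC3 x) :
    Nonempty (G ≃* alternatingGroup (Fin 5)) ∨ Nonempty (G ≃* Matrix.ProjectiveSpecialLinearGroup (Fin 2) (ZMod 7)) := by
  haveI := S.simple
  obtain ⟨h1, h2⟩ := S.bound h
  have h9 := h.not_nine
  rcases Cfsg.Agent.S0496.result S.nc (by omega) with e | e | e | e | e | e
  · exact Or.inl (Cfsg.Agent.S0494.result e)
  · haveI : Fact (Nat.Prime 7) := ⟨by norm_num⟩
    exact Or.inr (Cfsg.Agent.S0495.result e (F := ZMod 7) (by simp [ZMod.card]))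
  · exact absurd (e ▸ ⟨40, rfl⟩) h9
  · exact absurd (e ▸ ⟨56, rfl⟩) h9
  · rw [e] at h2; norm_num at h2
  · omega

end CfsgLib.SelfCentThree
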