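import Mathlib
import Cfsg.Agent.Lib.SelfCentThree.Simple

set_option autoImplicit false

/-!
Groups with a self-centralizing subgroup of order three: the reduction to the simple case.
-/

namespace CfsgLib.SelfCentThree

open scoped commutatorElement

universe u

variable {G : Type u} [Group G] [Finite G] {x : G}

theorem commute_prime_pow {K : Subgroup G} [Group.IsNilpotent K] {p q : ℕ} [Fact p.Prime] [Fact q.Prime] (hpq : p ≠ q)
    {a b : G} (ha : a ∈ K) (hb : b ∈ K) (hap : ∃ n : ℕ, a ^ p ^ n = 1) (hbq : ∃ n : ℕ, b ^ q ^ n = 1) :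
    Commute a b := by
  have key : ∀ {r : ℕ} [Fact r.Prime] (w : K), (∃ n : ℕ, (w : G) ^ r ^ n = 1) → ∃ P : Sylow r K,
      w ∈ (P : Subgroup K) := fun {r} _ w ⟨n, hn⟩ => by
    have hp : IsPGroup r (Subgroup.zpowers w) := fun z => by
      obtain ⟨i, hi⟩ := Subgroup.mem_zpowers_iff.1 z.2
      refine ⟨n, Subtype.ext ?_⟩
      rw [SubmonoidClass.coe_pow, ← hi, ← zpow_natCast, ← zpow_mul, mul_comm, zpow_mul, zpow_natCast,
        show w ^ r ^ n = 1 from Subtype.ext (by simpa using hn), one_zpow]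
      rfl
    obtain ⟨P, hP⟩ := hp.exists_le_sylow
    exact ⟨P, hP (Subgroup.mem_zpowers w)⟩
  obtain ⟨P, hP⟩ := key (r := p) ⟨a, ha⟩ hap
  obtain ⟨Q, hQ⟩ := key (r := q) ⟨b, hb⟩ hbq
  exact (Subgroup.commute_of_normal_of_disjoint (P : Subgroup K) Q inferInstance inferInstance
    (IsPGroup.disjoint_of_ne p q hpq _ _ P.2 Q.2) _ _ hP hQ).map K.subtype

variable {R : Subgroup G} [R.Normal]

theorem lift_three (h : SC3 x) (hR : Three' R) {y : G ⧸ R} (hy : y ^ 3 = 1) (hy1 : y ≠ 1) :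
    ∃ y₀ : G, orderOf y₀ = 3 ∧ QuotientGroup.mk' R y₀ = y := by
  haveI := Fact.mk Nat.prime_three
  obtain ⟨g, hg⟩ := (h.quot R hR).conj_zpowers (orderOf_eq_prime hy hy1)
  obtain ⟨g₀, rfl⟩ := QuotientGroup.mk'_surjective R g
  rcases hg with rfl | rfl
  · exact ⟨g₀ * x * g₀⁻¹, (h.conj g₀).ord, by simp⟩
  · exact ⟨g₀ * x⁻¹ * g₀⁻¹, (h.inv.conj g₀).ord, by simp⟩

theorem lift_prime_pow {p : ℕ} [Fact p.Prime] {a : G ⧸ R} (ha : a ^ p = 1) :
    ∃ a₀ : G, QuotientGroup.mk' R a₀ = a ∧ ∃ n : ℕ, a₀ ^ p ^ n = 1 := by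
  obtain ⟨k, rfl⟩ := QuotientGroup.mk'_surjective R a
  obtain ⟨i, j, hj, he⟩ := Nat.exists_eq_pow_mul_and_not_dvd (orderOf_pos k).ne' p (Fact.out : p.Prime).ne_one
  have hco : Nat.gcd j p = 1 := Nat.Coprime.gcd_eq_one ((Fact.out : p.Prime).coprime_iff_not_dvd.2 hj).symm
  have hb := Nat.gcd_eq_gcd_ab j p
  rw [hco] at hb
  refine ⟨k ^ ((j : ℤ) * Nat.gcdA j p), ?_, i, ?_⟩
  · rw [map_zpow, show (j : ℤ) * Nat.gcdA j p = 1 - (p : ℤ) * Nat.gcdB j p by push_cast at hb; omega, zpow_sub,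
      zpow_one, zpow_mul, zpow_natCast, ha, one_zpow, inv_one, mul_one]
  · rw [← zpow_natCast, ← zpow_mul,
      show (j : ℤ) * Nat.gcdA j p * ((p ^ i : ℕ) : ℤ) = ((orderOf k : ℕ) : ℤ) * Nat.gcdA j p by
        rw [he]; push_cast; ring,
      zpow_mul, zpow_natCast, pow_orderOf_eq_one, one_zpow]

theorem preimage_data (hR : Three' R) {y₀ : G} {A : Subgroup (G ⧸ R)} (hA : Three' A)
    (hy : Inv' (QuotientGroup.mk' R y₀) A) :
    Three' (A.comap (QuotientGroup.mk' R)) ∧ Inv' y₀ (A.comap (QuotientGroup.mk' R)) := by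
  haveI := Fact.mk Nat.prime_three
  refine ⟨three'_of_no_elt fun k hk hk3 => hA ?_, fun k => ?_⟩
  · have hfk : QuotientGroup.mk' R k ∈ A := hk
    have h1 : QuotientGroup.mk' R k ≠ 1 := fun e => by
      have hkR : k ∈ R := (QuotientGroup.eq_one_iff k).1 e
      apply hR
      rw [← hk3, ← Subgroup.orderOf_mk k hkR]
      exact orderOf_dvd_natCard _
    have h2 : orderOf (QuotientGroup.mk' R k) = 3 := orderOf_eq_prime
      (by rw [← map_pow, orderOf_dvd_iff_pow_eq_one.1 hk3.dvd, map_one]) h1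
    rw [← h2, ← Subgroup.orderOf_mk _ hfk]
    exact orderOf_dvd_natCard _
  · simp only [Subgroup.mem_comap]
    rw [map_mul, map_mul, map_inv]
    exact hy _

theorem four_lift (h : SC3 x) (hR : Three' R) {y a : G ⧸ R} (hy : y ^ 3 = 1) (hy1 : y ≠ 1) (ha : a ^ 2 = 1)
    (h1 : a * (y * a * y⁻¹) = y * y * a * (y * y)⁻¹) (h2 : (y * a * y⁻¹) * a = y * y * a * (y * y)⁻¹) :
    ∃ (a₀ y₀ : G) (K : Subgroup G), QuotientGroup.mk' R a₀ = a ∧ (∃ n : ℕ, a₀ ^ 2 ^ n = 1) ∧ SC3 y₀ ∧
      Three' K ∧ Inv' y₀ K ∧ R ≤ K ∧ a₀ ∈ K ∧ (IsPGroup 2 R → IsPGroup 2 K) := by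
  haveI := Fact.mk Nat.prime_two
  obtain ⟨y₀, hy₀, rfl⟩ := lift_three h hR hy hy1
  obtain ⟨A, hyA, haA, hA⟩ := four_group ha hy h1 h2
  obtain ⟨a₀, ha₀, hn⟩ := lift_prime_pow (p := 2) ha
  obtain ⟨hK, hyK⟩ := preimage_data hR (A := A)
    (fun e => by have := prime_dvd_card_pow hA Nat.prime_three e; norm_num at this) hyA
  refine ⟨a₀, y₀, _, ha₀, hn, h.of_order hy₀, hK, hyK, fun r hr => ?_, by rw [Subgroup.mem_comap, ha₀]; exact haA,
    fun hR2 k => ?_⟩
  · rw [Subgroup.mem_comap, show QuotientGroup.mk' R r = 1 from (QuotientGroup.eq_one_iff r).2 hr]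
    exact one_mem A
  · have hk : (k : G) ^ 2 ∈ R := (QuotientGroup.eq_one_iff _).1 (by
      rw [← QuotientGroup.mk'_apply, map_pow]; exact hA _ k.2)
    obtain ⟨n, hn'⟩ := hR2 ⟨_, hk⟩
    refine ⟨n + 1, Subtype.ext ?_⟩
    rw [SubmonoidClass.coe_pow, pow_succ', pow_mul]
    exact congrArg Subtype.val hn'

theorem kill (h : SC3 x) (hR : Three' R) {v : G} (hv : v ∈ R) {a b : G} (hva : Commute v a) (hvb : Commute v b)
    (h3 : (QuotientGroup.mk' R (a * b)) ^ 3 = 1) (h1 : QuotientGroup.mk' R (a * b) ≠ 1) : v = 1 := by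
  haveI := Fact.mk Nat.prime_three
  have hd : 3 ∣ orderOf (a * b) := orderOf_eq_prime h3 h1 ▸ orderOf_map_dvd _ _
  have ho := orderOf_pow_orderOf_div (orderOf_pos (a * b)).ne' hd
  exact (h.of_order ho).fpf hR v hv (((hva.mul_right hvb).pow_right _).symm)

theorem odd_kill (h : SC3 x) (hR : Three' R) (hw : A5Wit (G ⧸ R)) {q : ℕ} [Fact q.Prime] (hq : q ≠ 2) {v : G}
    (hv : v ∈ R) (hvq : ∃ n : ℕ, v ^ q ^ n = 1) : v = 1 := by
  haveI := Fact.mk Nat.prime_two
  obtain ⟨y, a, b, hy, hy1, ha, hb, h1, h2, h7, h8, hab, hab1⟩ := hw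
  obtain ⟨a₀, y₁, K, rfl, hna, hs1, hK, hyK, hRK, haK, -⟩ := four_lift h hR hy hy1 ha h1 h2
  obtain ⟨b₀, y₂, L, rfl, hnb, hs2, hL, hyL, hRL, hbL, -⟩ := four_lift h hR hy hy1 hb h7 h8
  haveI := hs1.nilpotent hK hyK
  haveI := hs2.nilpotent hL hyL
  refine kill h hR hv (commute_prime_pow hq (hRK hv) haK hvq hna) (commute_prime_pow hq (hRL hv) hbL hvq hnb) ?_ ?_
  · rw [map_mul]; exact hab
  · rw [map_mul]; exact hab1

theorem two_elementary (h : SC3 x) (hR : Three' R) (hR2 : IsPGroup 2 R) (hw : A5Wit (G ⧸ R)) :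
    IsMulCommutative R ∧ ∀ v ∈ R, v ^ 2 = 1 := by
  obtain ⟨y, a, b, hy, hy1, ha, hb, h1, h2, h7, h8, hab, hab1⟩ := hw
  obtain ⟨a₀, y₁, K, rfl, -, hs1, hK, hyK, hRK, haK, hK2⟩ := four_lift h hR hy hy1 ha h1 h2
  obtain ⟨b₀, y₂, L, rfl, -, hs2, hL, hyL, hRL, hbL, hL2⟩ := four_lift h hR hy hy1 hb h7 h8
  have hk : ∀ v ∈ R, Commute v a₀ → Commute v b₀ → v = 1 := fun v hv e1 e2 =>
    kill h hR hv e1 e2 (by rw [map_mul]; exact hab) (by rw [map_mul]; exact hab1)
  have hcomm : ∀ u ∈ R, ∀ v ∈ R, Commute u v := fun u hu v hv => by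
    refine commutatorElement_eq_one_iff_commute.1 (hk _ ?_ ?_ ?_)
    · exact mul_mem (mul_mem (mul_mem hu hv) (inv_mem hu)) (inv_mem hv)
    · exact (hs1.class_two (hK2 hR2) hyK (hRK hu) (hRK hv) haK).symm
    · exact (hs2.class_two (hL2 hR2) hyL (hRL hu) (hRL hv) hbL).symm
  refine ⟨⟨⟨fun u v => Subtype.ext (hcomm u u.2 v v.2).eq⟩⟩, fun u hu => ?_⟩
  have half : ∀ {y₀ c : G} {M : Subgroup G}, SC3 y₀ → IsPGroup 2 M → Inv' y₀ M → R ≤ M → c ∈ M →
      c ^ 2 ∈ R → Commute (u ^ 2) c := by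
    intro y₀ c M hs hM hyM hRM hc hc2
    have z1 : Commute u ⁅u, c⁆ := hs.class_two hM hyM (hRM hu) hc (hRM hu)
    have z2 : Commute c ⁅u, c⁆ := hs.class_two hM hyM (hRM hu) hc hc
    have e0 : ⁅u, c ^ 2⁆ = 1 := commutatorElement_eq_one_iff_commute.2 (hcomm u hu _ hc2)
    have e1 : ⁅u, c ^ 2⁆ = ⁅u, c⁆ * (c * ⁅u, c⁆ * c⁻¹) := by
      rw [pow_two]; simp only [commutatorElement_def]; group
    rw [e1, z2.eq, mul_inv_cancel_right] at e0
    refine commutatorElement_eq_one_iff_commute.1 ?_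
    have e2 : ⁅u ^ 2, c⁆ = (u * ⁅u, c⁆ * u⁻¹) * ⁅u, c⁆ := by
      rw [pow_two]; simp only [commutatorElement_def]; group
    rw [e2, z1.eq, mul_inv_cancel_right, e0]
  have hsq : ∀ {c : G}, (QuotientGroup.mk' R c) ^ 2 = 1 → c ^ 2 ∈ R := fun {c} e => by
    rw [← map_pow] at e
    exact (QuotientGroup.eq_one_iff _).1 e
  exact hk _ (pow_mem hu 2) (half hs1 (hK2 hR2) hyK hRK haK (hsq ha)) (half hs2 (hL2 hR2) hyL hRL hbL (hsq hb))

theorem seven_kill (h : SC3 x) (hR : Three' R) (hw : L27Wit (G ⧸ R)) {v : G} (hv : v ∈ R)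
    (hv2 : ∃ n : ℕ, v ^ 2 ^ n = 1) : v = 1 := by
  haveI := Fact.mk Nat.prime_two
  haveI : Fact (Nat.Prime 7) := ⟨by norm_num⟩
  obtain ⟨y, a, b, hy, hy1, ha, hb, hya, hyb, hab, hab1⟩ := hw
  obtain ⟨y₀, hy₀, rfl⟩ := lift_three h hR hy hy1
  have side : ∀ {c : G ⧸ R}, c ^ 7 = 1 → (∃ i : ℕ, QuotientGroup.mk' R y₀ * c * (QuotientGroup.mk' R y₀)⁻¹ = c ^ i) →
      ∃ c₀, QuotientGroup.mk' R c₀ = c ∧ Commute v c₀ := by
    intro c hc ⟨i, hi⟩
    obtain ⟨c₀, hc₀, hn⟩ := lift_prime_pow (p := 7) hc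
    have hinv : Inv' (QuotientGroup.mk' R y₀) (Subgroup.zpowers c) := inv'_of_le fun k hk => by
      obtain ⟨j, rfl⟩ := Subgroup.mem_zpowers_iff.1 hk
      rw [← conj_zpow, hi]
      exact zpow_mem (pow_mem (Subgroup.mem_zpowers c) i) j
    have h3 : Three' (Subgroup.zpowers c) := fun e => by
      rw [Nat.card_zpowers] at e
      have := e.trans (orderOf_dvd_of_pow_eq_one hc)
      norm_num at this
    obtain ⟨hK, hyK⟩ := preimage_data hR h3 hinv
    haveI := (h.of_order hy₀).nilpotent hK hyK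
    refine ⟨c₀, hc₀, commute_prime_pow (p := 2) (q := 7) (by norm_num)
      (K := (Subgroup.zpowers c).comap (QuotientGroup.mk' R)) ?_ ?_ hv2 hn⟩
    · rw [Subgroup.mem_comap, show QuotientGroup.mk' R v = 1 from (QuotientGroup.eq_one_iff v).2 hv]
      exact one_mem _
    · rw [Subgroup.mem_comap, hc₀]; exact Subgroup.mem_zpowers c
  obtain ⟨a₀, rfl, e1⟩ := side ha hya
  obtain ⟨b₀, rfl, e2⟩ := side hb hyb
  exact kill h hR hv e1 e2 (by rw [map_mul]; exact hab) (by rw [map_mul]; exact hab1)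

omit [R.Normal] in
theorem pgroup_two_of (hR : ∀ q : ℕ, q.Prime → q ≠ 2 → ∀ v ∈ R, (∃ n : ℕ, v ^ q ^ n = 1) → v = 1) :
    IsPGroup 2 R := by
  haveI := Fact.mk Nat.prime_two
  obtain ⟨n, hn⟩ : ∃ n, Nat.card R = 2 ^ n := ⟨_, Nat.eq_prime_pow_of_unique_prime_dvd Nat.card_pos.ne'
    fun {d} hd hdd => by
      by_contra h2
      haveI := Fact.mk hd
      obtain ⟨k, hk⟩ := exists_prime_orderOf_dvd_card' (G := R) d hdd
      have := hR d hd h2 k k.2 ⟨1, by rw [pow_one]; exact orderOf_dvd_iff_pow_eq_one.1 (by rw [Subgroup.orderOf_coe, hk])⟩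
      rw [← Subgroup.orderOf_coe, this, orderOf_one] at hk
      exact hd.one_lt.ne hk⟩
  exact IsPGroup.of_card hn

omit [R.Normal] in
/-- A normal subgroup containing an element of order three contains all of them. -/
theorem mem_of_normal (h : SC3 x) {N : Subgroup G} [N.Normal] {k : G} (hk : k ∈ N) (hk3 : orderOf k = 3) : x ∈ N := by
  obtain ⟨g, rfl | rfl⟩ := h.conj_zpowers hk3
  · simpa [mul_assoc] using ‹N.Normal›.conj_mem _ hk g⁻¹
  · have := inv_mem (‹N.Normal›.conj_mem _ hk g⁻¹)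
    simpa [mul_assoc] using this

omit [R.Normal] in
/-- Groups with a normal self-centralizing subgroup of order three. -/
theorem tri_of_normal_zpowers (h : SC3 x) (hn : (Subgroup.zpowers x).Normal) : Tri G := by
  have hbot : Three' (⊥ : Subgroup G) := by unfold Three'; rw [Subgroup.card_bot]; norm_num
  refine Or.inl ⟨⊥, inferInstance, inferInstance, by rw [Subgroup.card_bot]; exact Nat.coprime_one_left 3, ?_⟩
  have e0 : Nat.card (G ⧸ (⊥ : Subgroup G)) = Nat.card G := Nat.card_congr QuotientGroup.quotientBot.toEquiv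
  by_cases hall : ∀ g : G, g * x * g⁻¹ = x
  · left
    rw [e0, ← h.card_zpowers]
    rw [show Subgroup.zpowers x = ⊤ from eq_top_iff.2 fun g _ => h.cent g (mul_inv_eq_iff_eq_mul.1 (hall g)).symm,
      Subgroup.card_top]
  push Not at hall
  obtain ⟨t, htne⟩ := hall
  have hcases : ∀ g : G, g * x * g⁻¹ = x ∨ g * x * g⁻¹ = x⁻¹ := fun g => by
    rcases h.mem_cases (hn.conj_mem x (Subgroup.mem_zpowers x) g) with e | e | e
    · exact absurd (conj_eq_one_iff.1 e) h.ne_one
    · exact Or.inl e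
    · exact Or.inr e
  have ht : t * x * t⁻¹ = x⁻¹ := (hcases t).resolve_left htne
  have htX : t ∉ Subgroup.zpowers x := fun e => htne (by
    obtain ⟨i, rfl⟩ := Subgroup.mem_zpowers_iff.1 e; group)
  have hidx : (Subgroup.zpowers x).index = 2 := by
    rw [Subgroup.index_eq_two_iff_exists_notMem_and]
    refine ⟨t, htX, fun b => ?_⟩
    rcases normalizer_cases h ht (hcases b) with e | e
    · exact Or.inr e
    · exact Or.inl e
  have h6 : Nat.card G = 6 := by rw [← (Subgroup.zpowers x).card_mul_index, h.card_zpowers, hidx]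
  have hne : x⁻¹ ≠ x := fun e => htne (ht.trans e)
  haveI := Fact.mk Nat.prime_two
  obtain ⟨s, hs⟩ := exists_prime_orderOf_dvd_card' (G := G) 2 (h6 ▸ ⟨3, rfl⟩)
  set H := Subgroup.zpowers s
  have hH : H.index = 3 := by
    have := H.card_mul_index
    rw [Nat.card_zpowers, hs, h6] at this
    omega
  have hker : H.normalCore = ⊥ := by
    rw [Subgroup.eq_bot_iff_forall]
    intro k hk
    by_contra hk1
    have hkH := H.normalCore_le hk
    have hconj := (H.normalCore_normal).conj_mem k hk x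
    have hkH' := H.normalCore_le hconj
    have hH2 : ∀ w ∈ H, w ≠ 1 → w = s := fun w hw hw1 => by
      obtain ⟨i, rfl⟩ := Subgroup.mem_zpowers_iff.1 hw
      rw [← zpow_mod_orderOf, hs] at hw1 ⊢
      rcases Int.emod_two_eq_zero_or_one i with e | e
      · rw [show i % ((2 : ℕ) : ℤ) = 0 from e] at hw1; simp at hw1
      · rw [show i % ((2 : ℕ) : ℤ) = 1 from e, zpow_one]
    have e1 := hH2 k hkH hk1
    have e2 := hH2 _ hkH' fun e => hk1 (conj_eq_one_iff.1 e)
    rw [e1] at e2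
    have hc := h.cent s (mul_inv_eq_iff_eq_mul.1 e2)
    have := Subgroup.orderOf_mk s hc ▸ orderOf_dvd_natCard (⟨s, hc⟩ : Subgroup.zpowers x)
    rw [h.card_zpowers, hs] at this
    norm_num at this
  have hinj : Function.Injective (MulAction.toPermHom G (G ⧸ H)) := by
    rw [← MonoidHom.ker_eq_bot_iff, ← hker, Subgroup.normalCore_eq_ker]
  let e : (G ⧸ H) ≃ Fin 3 := Finite.equivFinOfCardEq (by rw [← Subgroup.index_eq_card, hH])
  let ψ : G →* Equiv.Perm (Fin 3) := (Equiv.permCongrHom e).toMonoidHom.comp (MulAction.toPermHom G (G ⧸ H))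
  have hψ : Function.Bijective ψ := (Nat.bijective_iff_injective_and_card ψ).2
    ⟨(Equiv.permCongrHom e).injective.comp hinj, by rw [h6, Nat.card_perm, Nat.card_fin]; rfl⟩
  exact Or.inr ⟨QuotientGroup.quotientBot.trans (MulEquiv.ofBijective ψ hψ)⟩

omit [R.Normal] in
theorem exists_radical : ∃ R : Subgroup G, R.Normal ∧ Three' R ∧
    ∀ L : Subgroup G, L.Normal → Three' L → R ≤ L → L = R := by
  obtain ⟨R, hR⟩ := Set.Finite.exists_maximal (s := {L : Subgroup G | L.Normal ∧ Three' L}) (Set.toFinite _)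
    ⟨⊥, inferInstance, by unfold Three'; rw [Subgroup.card_bot]; norm_num⟩
  exact ⟨R, hR.1.1, hR.1.2, fun L h1 h2 hle => le_antisymm (hR.2 ⟨h1, h2⟩ hle) hle⟩

/-- The theorem of Feit and Thompson. -/
theorem tri_of_sc3 : ∀ (n : ℕ) (G : Type u) [Group G] [Finite G] (x : G), Nat.card G = n → SC3 x → Tri G := by
  intro n
  induction n using Nat.strong_induction_on with
  | _ n ih =>
  intro G _ _ x hn h
  subst hn
  have ihsub : ∀ (H : Subgroup G), H ≠ ⊤ → x ∈ H → Tri H := fun H hH hxH =>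
    ih (Nat.card H) (lt_of_le_of_ne (H.card_le_card_group) fun e => hH (H.eq_top_of_card_eq e)) H ⟨x, hxH⟩ rfl
      (h.sub H hxH)
  obtain ⟨R, hRn, hR3, hRmax⟩ := exists_radical (G := G)
  haveI := hRn
  by_cases hR1 : R = ⊥
  swap
  · -- a non-trivial radical
    have hlt : Nat.card (G ⧸ R) < Nat.card G := by
      have h1 := R.card_mul_index
      rw [Subgroup.index_eq_card] at h1
      have h2 : 1 < Nat.card R := (Subgroup.one_lt_card_iff_ne_bot R).2 hR1
      have := Nat.card_pos (α := G ⧸ R)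
      nlinarith
    have hkill : ∀ (N : Subgroup (G ⧸ R)) [N.Normal], Three' N → N = ⊥ := fun N _ hN => by
      have hxK : Inv' (QuotientGroup.mk' R x) N := inv'_iff_mem_normalizer.2 (by
        rw [Subgroup.normalizer_eq_top N]; trivial)
      have := hRmax (N.comap (QuotientGroup.mk' R)) inferInstance (preimage_data hR3 hN hxK).1 (fun r hr => by
        rw [Subgroup.mem_comap, show QuotientGroup.mk' R r = 1 from (QuotientGroup.eq_one_iff r).2 hr]
        exact one_mem N)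
      rw [← Subgroup.map_comap_eq_self_of_surjective (QuotientGroup.mk'_surjective R) N, this,
        Subgroup.map_eq_bot_iff, QuotientGroup.ker_mk']
    have hxR : Inv' x R := inv'_iff_mem_normalizer.2 (by rw [Subgroup.normalizer_eq_top R]; trivial)
    rcases ih _ hlt (G ⧸ R) (QuotientGroup.mk' R x) rfl (h.quot R hR3) with
      ⟨N, hN, -, hco, hq⟩ | ⟨N, hN, -, hsq, he⟩ | he
    · haveI := hN
      have hb := hkill N ((Nat.Prime.coprime_iff_not_dvd Nat.prime_three).1 hco.symm)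
      subst hb
      refine Or.inl ⟨R, hRn, h.nilpotent hR3 hxR, ((Nat.Prime.coprime_iff_not_dvd Nat.prime_three).2 hR3).symm, ?_⟩
      rcases hq with e | e'
      · exact Or.inl ((Nat.card_congr QuotientGroup.quotientBot.toEquiv).symm.trans e)
      · obtain ⟨e⟩ := e'
        exact Or.inr ⟨QuotientGroup.quotientBot.symm.trans e⟩
    · haveI := hN
      obtain ⟨e⟩ := he
      have hb := hkill N fun e3 => by
        have := prime_dvd_card_pow hsq Nat.prime_three e3
        norm_num at this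
      subst hb
      have hw : A5Wit (G ⧸ R) := a5_wit.transport (QuotientGroup.quotientBot.symm.trans e).symm
      have hR2 : IsPGroup 2 R := pgroup_two_of fun q hq hq2 v hv hvq => by
        haveI := Fact.mk hq
        exact odd_kill h hR3 hw hq2 hv hvq
      obtain ⟨hc, hs⟩ := two_elementary h hR3 hR2 hw
      exact Or.inr (Or.inl ⟨R, hRn, hc, hs, ⟨QuotientGroup.quotientBot.symm.trans e⟩⟩)
    · obtain ⟨e⟩ := he
      exfalso
      have hR2 : IsPGroup 2 R := pgroup_two_of fun q hq hq2 v hv hvq => by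
        haveI := Fact.mk hq
        exact odd_kill h hR3 (l27_four.transport e.symm) hq2 hv hvq
      exact hR1 ((Subgroup.eq_bot_iff_forall R).2 fun v hv =>
        seven_kill h hR3 (l27_seven.transport e.symm) hv (two_elt hR2 hv))
  -- a trivial radical
  subst hR1
  have hnil : ∀ L : Subgroup G, L.Normal → Three' L → L = ⊥ := fun L h1 h2 => hRmax L h1 h2 bot_le
  haveI : Nontrivial G := ⟨⟨x, 1, h.ne_one⟩⟩
  by_cases hsimple : IsSimpleGroup G
  · by_cases hcm : IsMulCommutative G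
    · exact tri_of_normal_zpowers h ⟨fun k hk g => by
        have : g * k * g⁻¹ = k := by rw [mul_comm' g k, mul_inv_cancel_right]
        rw [this]; exact hk⟩
    · rcases Setup.classify ⟨hsimple, hcm, fun H y hH hy hsy => ih (Nat.card H)
          (lt_of_le_of_ne (H.card_le_card_group) fun e => hH (H.eq_top_of_card_eq e)) H ⟨y, hy⟩ rfl (hsy.sub H hy)⟩ h
        with e' | e'
      · obtain ⟨e⟩ := e'
        exact Or.inr (Or.inl ⟨⊥, inferInstance, inferInstance, fun n hn => by rw [Subgroup.mem_bot.1 hn, one_pow],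
          ⟨QuotientGroup.quotientBot.trans e⟩⟩)
      · exact Or.inr (Or.inr e')
  obtain ⟨N, hN, hN1, hNt⟩ : ∃ N : Subgroup G, N.Normal ∧ N ≠ ⊥ ∧ N ≠ ⊤ := by
    by_contra hh
    push Not at hh
    exact hsimple ⟨fun N hN => or_iff_not_imp_left.2 (hh N hN)⟩
  haveI := hN
  have hxN : x ∈ N := by
    by_contra hxN
    exact hN1 (hnil N hN (three'_of_no_elt fun k hk hk3 => hxN (mem_of_normal h hk hk3)))
  have hsN := h.sub N hxN
  -- the largest normal subgroup of order prime to three of N is trivial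
  have hchar : ∀ M : Subgroup N, M.Normal → Three' M →
      (∀ L : Subgroup N, L.Normal → Three' L → L ≤ M) → M = ⊥ := fun M hM hM3 hbig => by
    haveI := hM
    have hnorm : (M.map N.subtype).Normal := ⟨fun k hk g => by
      let φ : N ≃* N := MulAut.conjNormal g
      have := hbig (M.map φ.toMonoidHom) (hM.map φ.toMonoidHom φ.surjective) (three'_map _ hM3)
      obtain ⟨k₀, hk₀, rfl⟩ := hk
      exact ⟨φ k₀, this ⟨k₀, hk₀, rfl⟩, MulAut.conjNormal_apply g k₀⟩⟩
    have := hnil _ hnorm (three'_map _ hM3)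
    exact (Subgroup.map_eq_bot_iff_of_injective M N.subtype_injective).1 this
  have key : Nonempty (N ≃* alternatingGroup (Fin 5)) ∨ Nonempty (N ≃* PSL27) ∨ Tri G := by
    rcases ihsub N hNt hxN with ⟨M, hM, -, hco, hq⟩ | ⟨M, hM, hcom, hsq, he⟩ | he
    · haveI := hM
      right; right
      have hM3 := (Nat.Prime.coprime_iff_not_dvd Nat.prime_three).1 hco.symm
      have hA := shapeA_of hsN M hM3 hq
      have hb := hchar M hM hM3 fun L hL hL3 => hA.absorb L ⟨x, hxN⟩ hsN.ord hL3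
        (inv'_iff_mem_normalizer.2 (by haveI := hL; rw [Subgroup.normalizer_eq_top L]; trivial))
      subst hb
      have hcard : Nat.card N = 3 ∨ Nat.card N = 6 := by
        have := hA.index
        rwa [Subgroup.index_bot] at this
      refine tri_of_normal_zpowers h ⟨fun k hk g => ?_⟩
      have hkN : g * k * g⁻¹ ∈ N := hN.conj_mem k (Subgroup.zpowers_le.2 hxN hk) g
      set X := (Subgroup.zpowers x).subgroupOf N
      have hX : X.index ≤ 2 := by
        have h1 := X.card_mul_index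
        rw [Nat.card_congr (Subgroup.subgroupOfEquivOfLe (Subgroup.zpowers_le.2 hxN)).toEquiv, h.card_zpowers] at h1
        omega
      have hk3 : (g * k * g⁻¹) ^ 3 = 1 := by
        obtain ⟨i, rfl⟩ := Subgroup.mem_zpowers_iff.1 hk
        rw [conj_pow, ← zpow_natCast, ← zpow_mul, mul_comm, zpow_mul, zpow_natCast, h.pow_three, one_zpow]; group
      have h2 : (⟨_, hkN⟩ : N) ^ 2 ∈ X := by
        rcases (show X.index = 1 ∨ X.index = 2 by have := X.index_ne_zero_of_finite; omega) with e | e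
        · rw [Subgroup.index_eq_one.1 e]; trivial
        · exact Subgroup.sq_mem_of_index_two e _
      rw [Subgroup.mem_subgroupOf, SubmonoidClass.coe_pow] at h2
      have := pow_mem h2 2
      rwa [← pow_mul, show 2 * 2 = 3 + 1 from rfl, pow_succ, hk3, one_mul] at this
    · haveI := hM
      obtain ⟨e⟩ := he
      left
      have hb : M = ⊥ := by
        by_contra hb
        have hB : ShapeB N M := ⟨hM, hb, hsq, ⟨e⟩⟩
        exact hb (hchar M hM hB.three' fun L hL hL3 => by haveI := hL; exact hB.normal_le hsN L hL3)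
      subst hb
      exact ⟨QuotientGroup.quotientBot.symm.trans e⟩
    · exact Or.inr (Or.inl he)
  suffices hNs : IsSimpleGroup N ∧ ¬ IsMulCommutative N ∨ Tri G by
    rcases hNs with ⟨hs, hnc⟩ | htri
    swap
    · exact htri
    exfalso
    have hlt : Nat.card N < Nat.card G :=
      lt_of_le_of_ne (N.card_le_card_group) fun e => hNt (N.eq_top_of_card_eq e)
    have S : Setup N := ⟨hs, hnc, fun H y hH hy hsy => ih (Nat.card H)
      ((H.card_le_card_group).trans_lt hlt) H ⟨y, hy⟩ rfl (hsy.sub H hy)⟩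
    obtain ⟨t, -, ht⟩ := exists_inverting S hsN
    have ht' : (t : G) * x * (t : G)⁻¹ = x⁻¹ := congrArg Subtype.val ht
    refine hNt (eq_top_iff.2 fun g _ => ?_)
    obtain ⟨k, hk⟩ := hsN.conj_zpowers (y := ⟨g * x * g⁻¹, hN.conj_mem x hxN g⟩)
      (by rw [Subgroup.orderOf_mk]; exact (h.conj g).ord)
    have hc : ((k : G)⁻¹ * g) * x * ((k : G)⁻¹ * g)⁻¹ = x ∨ ((k : G)⁻¹ * g) * x * ((k : G)⁻¹ * g)⁻¹ = x⁻¹ := by
      have e : ((k : G)⁻¹ * g) * x * ((k : G)⁻¹ * g)⁻¹ = (k : G)⁻¹ * (g * x * g⁻¹) * k := by group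
      rcases hk with e' | e'
      · left
        have e'' := congrArg Subtype.val e'
        simp only [Subgroup.coe_mul, Subgroup.coe_inv] at e''
        rw [e, e'']; group
      · right
        have e'' := congrArg Subtype.val e'
        simp only [Subgroup.coe_mul, Subgroup.coe_inv] at e''
        rw [e, e'']; group
    rcases normalizer_cases h ht' hc with e | e
    · have := mul_mem k.2 (Subgroup.zpowers_le.2 hxN e)
      rwa [mul_inv_cancel_left] at this
    · have := mul_mem (mul_mem k.2 (Subgroup.zpowers_le.2 hxN e)) (inv_mem t.2)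
      simpa [mul_assoc] using this
  have hnc : ∀ (Q : Type) [Group Q] [Finite Q], IsSimpleGroup Q → ∀ f : N ≃* Q, ∀ n : ℕ, Nat.card Q = n →
      ¬ n.Prime → IsSimpleGroup N ∧ ¬ IsMulCommutative N := fun Q _ _ hQ f n hn hnp => by
    haveI := hQ
    haveI : Nontrivial N := ⟨⟨⟨x, hxN⟩, 1, hsN.ne_one⟩⟩
    haveI hs : IsSimpleGroup N := IsSimpleGroup.isSimpleGroup_of_surjective f.symm.toMonoidHom f.symm.surjective
    refine ⟨hs, fun hc => hnp ?_⟩
    letI : CommGroup N := { (inferInstance : Group N) with mul_comm := hc.is_comm.comm }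
    have := IsSimpleGroup.prime_card (α := N)
    rwa [Nat.card_congr f.toEquiv, hn] at this
  rcases key with e' | e' | htri
  · obtain ⟨e⟩ := e'
    exact Or.inl (hnc _ inferInstance e 60 (by rw [Nat.card_eq_fintype_card]; decide +kernel) (by norm_num))
  · obtain ⟨e⟩ := e'
    refine Or.inl (hnc _ simple_l27 e _ rfl ?_)
    intro hp
    obtain ⟨y, -, -, hy, hy1, -⟩ := l27_seven
    haveI := Fact.mk Nat.prime_three
    have h3 : 3 ∣ Nat.card PSL27 := orderOf_eq_prime hy hy1 ▸ orderOf_dvd_natCard y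
    obtain ⟨y7', h', k', -, -, hh, hk, -, -, hhk, hhk1⟩ := l27_seven
    haveI : Fact (Nat.Prime 7) := ⟨by norm_num⟩
    have he := (Nat.prime_dvd_prime_iff_eq Nat.prime_three hp).1 h3
    have hh1 : h' = 1 ∧ k' = 1 := by
      have aux : ∀ w : PSL27, w ^ 7 = 1 → w = 1 := fun w hw => by
        by_contra hw1
        have := orderOf_eq_prime hw hw1 ▸ orderOf_dvd_natCard w
        rw [← he] at this
        norm_num at this
      exact ⟨aux h' hh, aux k' hk⟩
    exact hhk1 (by rw [hh1.1, hh1.2, one_mul])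
  · exact Or.inr htri

end CfsgLib.SelfCentThree
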